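import Mathlib

/-! Canonical ideals of one-dimensional local domains: injectivity of `K / ω` and duality of lattices. -/

set_option autoImplicit false

universe u

namespace Groth.Agent.TFCanonLib

open IsLocalRing CategoryTheory

variable {O : Type u} [CommRing O] [IsDomain O] {K : Type u} [Field K] [Algebra O K] [IsFractionRing O K]

theorem baer_fractionRing : Module.Baer O K := by
  intro I g
  by_cases hI : I = ⊥
  · exact ⟨0, fun x hx => by
      subst hI
      have h0 : (⟨x, hx⟩ : (⊥ : Ideal O)) = 0 := Subtype.ext ((Submodule.mem_bot O).mp hx)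
      rw [h0]; simp⟩
  obtain ⟨a, ha, ha0⟩ := Submodule.exists_mem_ne_zero_of_ne_bot hI
  refine ⟨LinearMap.toSpanSingleton O K (g ⟨a, ha⟩ / algebraMap O K a), fun x hx => ?_⟩
  have h1 : x • g ⟨a, ha⟩ = a • g ⟨x, hx⟩ := by
    rw [← map_smul, ← map_smul]
    exact congrArg g (Subtype.ext (mul_comm x a))
  have ha' : algebraMap O K a ≠ 0 := by simpa using ha0
  rw [LinearMap.toSpanSingleton_apply, Algebra.smul_def, ← mul_div_assoc, div_eq_iff ha',
    ← Algebra.smul_def, h1, Algebra.smul_def, mul_comm]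

theorem injective_fractionRing : Module.Injective O K := Module.Baer.injective baer_fractionRing

/-- `K / ω` is injective. -/
theorem injective_quotient (ω : Submodule O K) [HasInjectiveDimensionLT (ModuleCat.of O ↥ω) 2] :
    Module.Injective O (K ⧸ ω) := by
  haveI := injective_fractionRing (O := O) (K := K)
  haveI : CategoryTheory.Injective (ModuleCat.of O K) := Module.injective_object_of_injective_module O K
  have hS : (ShortComplex.mk (X₁ := ModuleCat.of O ↥ω) (X₂ := ModuleCat.of O K)
      (X₃ := ModuleCat.of O (K ⧸ ω)) (ModuleCat.ofHom ω.subtype) (ModuleCat.ofHom ω.mkQ)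
      (ModuleCat.hom_ext (by ext x; simp))).ShortExact :=
    { exact := (ShortComplex.ShortExact.moduleCat_exact_iff_function_exact _).mpr (LinearMap.exact_subtype_mkQ ω)
      mono_f := (ModuleCat.mono_iff_injective _).mpr ω.subtype_injective
      epi_g := (ModuleCat.epi_iff_surjective _).mpr (Submodule.mkQ_surjective _) }
  haveI : CategoryTheory.Injective (ModuleCat.of O (K ⧸ ω)) :=
    injective_iff_hasInjectiveDimensionLT_one.mpr
      ((hS.hasInjectiveDimensionLT_X₃_iff 0 inferInstance).mpr inferInstance)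
  exact Module.injective_module_of_injective_object O _

/-- An element of a lattice determines a linear map into `K`. -/
theorem exists_eq_mul (L : Submodule O K) (η : ↥L →ₗ[O] K) : ∃ c : K, ∀ w : ↥L, η w = c * (w : K) := by
  by_cases hL : L = ⊥
  · exact ⟨0, fun w => by
      have hw : w = 0 := Subtype.ext ((Submodule.mem_bot O).mp (hL.le w.2))
      rw [hw]; simp⟩
  obtain ⟨w0, hw0, hne⟩ := Submodule.exists_mem_ne_zero_of_ne_bot hL
  refine ⟨η ⟨w0, hw0⟩ / w0, fun w => ?_⟩
  obtain ⟨a, b, hb, hab⟩ := IsFractionRing.div_surjective O ((w : K) / w0)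
  have hb0 : algebraMap O K b ≠ 0 := by
    simpa using nonZeroDivisors.ne_zero hb
  have h1 : b • w = a • (⟨w0, hw0⟩ : ↥L) := Subtype.ext (by
    show b • (w : K) = a • w0
    rw [Algebra.smul_def, Algebra.smul_def]
    field_simp at hab
    linear_combination (-1 : K) * hab)
  have h2 := congrArg η h1
  rw [map_smul, map_smul, Algebra.smul_def, Algebra.smul_def] at h2
  field_simp at hab
  apply mul_left_cancel₀ hb0
  rw [h2]
  field_simp
  linear_combination η ⟨w0, hw0⟩ * hab

theorem exists_embedding_free (O : Type u) [CommRing O] [IsDomain O] (K : Type u) [Field K] [Algebra O K]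
    [IsFractionRing O K] (M : Type u) [AddCommGroup M] [Module O M] [Module.Finite O M]
    [NoZeroSMulDivisors O M] : ∃ (n : ℕ) (f : M →ₗ[O] (Fin n → O)), Function.Injective f := by
  classical
  obtain ⟨s, hs⟩ := (Module.Finite.fg_top : (⊤ : Submodule O M).FG)
  let b := Module.finBasis K (TensorProduct O K M)
  let c : M →ₗ[O] (Fin (Module.finrank K (TensorProduct O K M)) → K) :=
    (b.equivFun.toLinearMap.restrictScalars O).comp (TensorProduct.mk O K M 1)
  obtain ⟨⟨d, hd⟩, hdint⟩ := IsLocalization.exist_integer_multiples (nonZeroDivisors O)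
    (s ×ˢ (Finset.univ : Finset (Fin (Module.finrank K (TensorProduct O K M))))) (fun p => c p.1 p.2)
  let j : (Fin (Module.finrank K (TensorProduct O K M)) → O) →ₗ[O]
      (Fin (Module.finrank K (TensorProduct O K M)) → K) :=
    LinearMap.pi fun i => (Algebra.linearMap O K).comp (LinearMap.proj i)
  have hj : Function.Injective j := fun x y h => funext fun i =>
    IsFractionRing.injective O K (congrFun h i)
  have hrange : ∀ m, d • c m ∈ LinearMap.range j := by
    intro m
    have hm : m ∈ Submodule.span O (s : Set M) := hs ▸ trivial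
    induction hm using Submodule.span_induction with
    | mem m hm =>
      choose a ha using fun i => hdint (m, i) (Finset.mem_product.mpr ⟨hm, Finset.mem_univ i⟩)
      exact ⟨a, funext fun i => ha i⟩
    | zero => simp
    | add x y _ _ hx hy => rw [map_add, smul_add]; exact add_mem hx hy
    | smul r x _ hx => rw [map_smul, smul_comm]; exact Submodule.smul_mem _ r hx
  let g : M →ₗ[O] (Fin (Module.finrank K (TensorProduct O K M)) → O) :=
    (LinearEquiv.ofInjective j hj).symm.toLinearMap.comp ((d • c).codRestrict _ hrange)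
  refine ⟨_, g, (injective_iff_map_eq_zero g).mpr fun m hm => ?_⟩
  have h1 : d • c m = 0 := by
    have h2 := congrArg (fun z => (LinearEquiv.ofInjective j hj z : Fin (Module.finrank K (TensorProduct O K M)) → K)) hm
    simpa [g] using h2
  have h3 : (1 : K) ⊗ₜ[O] m = 0 := by
    apply b.equivFun.injective
    rw [map_zero]
    exact (smul_eq_zero.mp h1).resolve_left (nonZeroDivisors.ne_zero hd)
  haveI : IsLocalizedModule (nonZeroDivisors O) (TensorProduct.mk O K M 1) :=
    (isLocalizedModule_iff_isBaseChange (nonZeroDivisors O) K _).mpr (TensorProduct.isBaseChange O M K)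
  obtain ⟨⟨a, ha⟩, ham⟩ := (IsLocalizedModule.eq_zero_iff (nonZeroDivisors O) (TensorProduct.mk O K M 1)).mp h3
  exact (smul_eq_zero.mp ham).resolve_left (nonZeroDivisors.ne_zero ha)

/-- Maps from torsion-free modules to `K / ω` lift to `K`. -/
theorem exists_lift (ω : Submodule O K) [HasInjectiveDimensionLT (ModuleCat.of O ↥ω) 2] (M : Type u)
    [AddCommGroup M] [Module O M] [Module.Finite O M] [NoZeroSMulDivisors O M] (h : M →ₗ[O] K ⧸ ω) :
    ∃ η : M →ₗ[O] K, ω.mkQ.comp η = h := by
  haveI := injective_quotient ω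
  obtain ⟨n, f, hf⟩ := exists_embedding_free O K M
  obtain ⟨g, hg⟩ := Module.Injective.out f hf h
  choose y hy using fun i : Fin n => ω.mkQ_surjective (g (Pi.single i 1))
  refine ⟨((Pi.basisFun O (Fin n)).constr O y).comp f, ?_⟩
  have : ω.mkQ.comp ((Pi.basisFun O (Fin n)).constr O y) = g := (Pi.basisFun O (Fin n)).ext fun i => by
    rw [LinearMap.comp_apply, Module.Basis.constr_basis, hy, Pi.basisFun_apply]
  rw [← LinearMap.comp_assoc, this]
  exact LinearMap.ext hg

/-- Dualising an injection with torsion-free cokernel gives a surjection. -/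
theorem dual_surjective (ω : Submodule O K) [HasInjectiveDimensionLT (ModuleCat.of O ↥ω) 2]
    {M N P : Type u} [AddCommGroup M] [Module O M] [AddCommGroup N] [Module O N] [AddCommGroup P] [Module O P]
    [Module.Finite O P] [NoZeroSMulDivisors O P] (f : M →ₗ[O] N) (p : N →ₗ[O] P) (hf : Function.Injective f)
    (hp : Function.Surjective p) (hfp : Function.Exact f p) (φ : M →ₗ[O] ↥ω) :
    ∃ ψ : N →ₗ[O] ↥ω, ψ.comp f = φ := by
  haveI := injective_fractionRing (O := O) (K := K)
  obtain ⟨ψ, hψ⟩ := Module.Injective.out f hf (ω.subtype.comp φ)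
  have hker : LinearMap.ker p ≤ LinearMap.ker (ω.mkQ.comp ψ) := fun x hx => by
    obtain ⟨m, rfl⟩ := (hfp x).mp hx
    simp [hψ]
  obtain ⟨η, hη⟩ := exists_lift ω P
    (((LinearMap.ker p).liftQ _ hker).comp (p.quotKerEquivOfSurjective hp).symm.toLinearMap)
  have hmem : ∀ x, (ψ - η.comp p) x ∈ ω := fun x => by
    rw [← Submodule.Quotient.mk_eq_zero ω]
    have h1 := LinearMap.congr_fun hη (p x)
    have h2 : (p.quotKerEquivOfSurjective hp).symm (p x) = Submodule.Quotient.mk x :=
      (LinearEquiv.symm_apply_eq _).mpr rfl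
    simp only [LinearMap.comp_apply, LinearEquiv.coe_coe, h2, Submodule.liftQ_apply, Submodule.mkQ_apply] at h1
    simp [h1]
  refine ⟨(ψ - η.comp p).codRestrict ω hmem, LinearMap.ext fun m => Subtype.ext ?_⟩
  simp [hψ, hfp.apply_apply_eq_zero]

theorem fractionRing_not_finite [IsLocalRing O] (hfld : maximalIdeal O ≠ ⊥) : ¬ Module.Finite O K := fun h => by
  obtain ⟨a, ha, ha0⟩ := Submodule.exists_mem_ne_zero_of_ne_bot hfld
  have htop : (⊤ : Submodule O K) ≤ maximalIdeal O • ⊤ := fun x _ => by
    have : x = a • ((algebraMap O K a)⁻¹ * x) := by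
      rw [Algebra.smul_def, ← mul_assoc, mul_inv_cancel₀ (by simpa using ha0), one_mul]
    rw [this]
    exact Submodule.smul_mem_smul ha trivial
  exact top_ne_bot (α := Submodule O K)
    (Submodule.eq_bot_of_le_smul_of_le_jacobson_bot (maximalIdeal O) ⊤ h.fg_top htop
      (maximalIdeal_le_jacobson _))

variable [IsNoetherianRing O] [IsLocalRing O] [Ring.DimensionLEOne O]

/-- The socle of `K / ω` is nonzero. -/
theorem exists_socle (hfld : maximalIdeal O ≠ ⊥) (ω : Submodule O K) (hω0 : ω ≠ ⊥) (hωfg : ω.FG) :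
    ∃ s : K ⧸ ω, s ≠ 0 ∧ ∀ a ∈ maximalIdeal O, a • s = 0 := by
  classical
  have hne : ω ≠ ⊤ := fun h => fractionRing_not_finite (K := K) hfld ⟨h ▸ hωfg⟩
  obtain ⟨x, hx⟩ := SetLike.exists_not_mem_of_ne_top ω hne
  obtain ⟨w0, hw0, hw⟩ := Submodule.exists_mem_ne_zero_of_ne_bot hω0
  obtain ⟨a, b, hb, hab⟩ := IsFractionRing.div_surjective O (x / w0)
  have hbx : b • x ∈ ω := by
    have : b • x = a • w0 := by
      rw [Algebra.smul_def, Algebra.smul_def]
      have hb0 : algebraMap O K b ≠ 0 := by simpa using nonZeroDivisors.ne_zero hb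
      field_simp at hab
      linear_combination (-1 : K) * hab
    rw [this]
    exact ω.smul_mem a hw0
  have hrad : maximalIdeal O ≤ (Ideal.span {b}).radical := by
    rw [Ideal.radical_eq_sInf]
    refine le_sInf fun p hp => ?_
    haveI := hp.2
    have hp0 : p ≠ ⊥ := fun h => nonZeroDivisors.ne_zero hb <| by
      simpa [h] using hp.1 (Ideal.subset_span rfl)
    exact (IsLocalRing.eq_maximalIdeal (Ring.DimensionLEOne.maximalOfPrime hp0 hp.2)).ge
  obtain ⟨n, hn⟩ := Ideal.exists_pow_le_of_le_radical_of_fg_radical hrad (IsNoetherian.noetherian _)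
  have hex : ∃ m, ∀ c ∈ maximalIdeal O ^ m, c • x ∈ ω := ⟨n, fun c hc => by
    obtain ⟨d, rfl⟩ := Ideal.mem_span_singleton'.mp (hn hc)
    rw [mul_smul]
    exact ω.smul_mem d hbx⟩
  have hm0 : Nat.find hex ≠ 0 := fun h => hx (by
    simpa using Nat.find_spec hex 1 (by rw [h]; simp))
  obtain ⟨m, hm⟩ : ∃ m, Nat.find hex = m + 1 := ⟨Nat.find hex - 1, by omega⟩
  have hnot := Nat.find_min hex (show m < Nat.find hex by omega)
  push Not at hnot
  obtain ⟨c, hc, hcx⟩ := hnot
  refine ⟨ω.mkQ (c • x), fun h => hcx ((Submodule.Quotient.mk_eq_zero ω).mp h), fun a ha => ?_⟩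
  rw [← map_smul, smul_smul]
  refine (Submodule.Quotient.mk_eq_zero ω).mpr (Nat.find_spec hex _ ?_)
  rw [hm, pow_succ']
  exact Ideal.mul_mem_mul ha hc

/-- Nonzero elements are separated by maps to `K / ω`. -/
theorem exists_map_ne_zero (hfld : maximalIdeal O ≠ ⊥) (ω : Submodule O K)
    [HasInjectiveDimensionLT (ModuleCat.of O ↥ω) 2] (hω0 : ω ≠ ⊥) (hωfg : ω.FG) (N : Type u) [AddCommGroup N]
    [Module O N] (x : N) (hx : x ≠ 0) : ∃ φ : N →ₗ[O] K ⧸ ω, φ x ≠ 0 := by
  haveI := injective_quotient ω
  obtain ⟨s, hs, hms⟩ := exists_socle hfld ω hω0 hωfg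
  let τ := LinearMap.toSpanSingleton O N x
  have hker : LinearMap.ker τ ≤ LinearMap.ker (LinearMap.toSpanSingleton O (K ⧸ ω) s) := fun a ha =>
    hms a ((IsLocalRing.mem_maximalIdeal a).mpr fun hu => hx (hu.smul_eq_zero.mp ha))
  obtain ⟨φ, hφ⟩ := Module.Injective.out ((LinearMap.ker τ).liftQ τ le_rfl)
    (LinearMap.ker_eq_bot.mp (by simp [Submodule.ker_liftQ])) ((LinearMap.ker τ).liftQ _ hker)
  refine ⟨φ, ?_⟩
  have h1 := hφ (Submodule.Quotient.mk 1)
  simp only [Submodule.liftQ_apply, τ, LinearMap.toSpanSingleton_apply, one_smul] at h1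
  rwa [h1]

/-- Double duality of lattices. -/
theorem div_div (hfld : maximalIdeal O ≠ ⊥) (ω : Submodule O K)
    [HasInjectiveDimensionLT (ModuleCat.of O ↥ω) 2] (hω0 : ω ≠ ⊥) (hωfg : ω.FG) (L : Submodule O K) (hL : L.FG) :
    ω / (ω / L) = L := by
  refine le_antisymm (fun z hz => ?_) (Submodule.le_div_iff.mpr fun w hw c hc => by
    rw [mul_comm]; exact Submodule.mem_div_iff_forall_mul_mem.mp hc w hw)
  by_contra hzL
  let L' := L ⊔ Submodule.span O {z}
  haveI : Module.Finite O ↥L' := Module.Finite.iff_fg.mpr (hL.sup (Submodule.fg_span_singleton z))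
  have hzmem : z ∈ L' := Submodule.mem_sup_right (Submodule.mem_span_singleton_self z)
  obtain ⟨φ, hφ⟩ := exists_map_ne_zero hfld ω hω0 hωfg (↥L' ⧸ L.comap L'.subtype)
    (Submodule.Quotient.mk ⟨z, hzmem⟩) (fun h => hzL (show (⟨z, hzmem⟩ : ↥L') ∈ L.comap L'.subtype from (Submodule.Quotient.mk_eq_zero _).mp h))
  haveI : NoZeroSMulDivisors O ↥L' := ⟨fun {a x} h => by
    have h' : a • (x : K) = 0 := congrArg Subtype.val h
    rw [Algebra.smul_def, mul_eq_zero] at h'
    exact h'.imp (fun h => by simpa using h) (fun h => Subtype.ext h)⟩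
  obtain ⟨η, hη⟩ := exists_lift ω ↥L' (φ.comp (L.comap L'.subtype).mkQ)
  obtain ⟨c, hc⟩ := exists_eq_mul L' η
  have key : ∀ w : ↥L', ω.mkQ (c * (w : K)) = φ (Submodule.Quotient.mk w) := fun w => by
    rw [← hc]; exact LinearMap.congr_fun hη w
  have hcD : c ∈ ω / L := Submodule.mem_div_iff_forall_mul_mem.mpr fun w hw => by
    rw [← Submodule.Quotient.mk_eq_zero ω]
    have h := key ⟨w, Submodule.mem_sup_left hw⟩
    rw [show (Submodule.Quotient.mk (⟨w, Submodule.mem_sup_left hw⟩ : ↥L') : ↥L' ⧸ L.comap L'.subtype) = 0 from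
      (Submodule.Quotient.mk_eq_zero _).mpr hw, map_zero] at h
    exact h
  apply hφ
  rw [← key ⟨z, hzmem⟩, mul_comm]
  exact (Submodule.Quotient.mk_eq_zero ω).mpr (Submodule.mem_div_iff_forall_mul_mem.mp hz c hcD)

omit [IsLocalRing O] [Ring.DimensionLEOne O] [IsFractionRing O K] [IsDomain O] in
theorem fg_div (ω : Submodule O K) (hωfg : ω.FG) (L : Submodule O K) (hL : L ≠ ⊥) : (ω / L).FG := by
  obtain ⟨w, hw, hw0⟩ := Submodule.exists_mem_ne_zero_of_ne_bot hL
  have hle : ω / L ≤ ω.map (LinearMap.mulRight O w⁻¹) := fun c hc =>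
    ⟨c * w, Submodule.mem_div_iff_forall_mul_mem.mp hc w hw, by
      simp [mul_assoc, mul_inv_cancel₀ hw0]⟩
  haveI : Module.Finite O ↥(ω.map (LinearMap.mulRight O w⁻¹)) := Module.Finite.iff_fg.mpr (hωfg.map _)
  have h := (IsNoetherian.noetherian ((ω / L).comap (ω.map (LinearMap.mulRight O w⁻¹)).subtype)).map
    (ω.map (LinearMap.mulRight O w⁻¹)).subtype
  rwa [Submodule.map_comap_eq, Submodule.range_subtype, inf_of_le_right hle] at h

omit [IsLocalRing O] [Ring.DimensionLEOne O] [IsFractionRing O K] [IsDomain O] [IsNoetherianRing O] in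
theorem div_anti (ω : Submodule O K) {L L' : Submodule O K} (h : L ≤ L') : ω / L' ≤ ω / L := fun _ hc =>
  Submodule.mem_div_iff_forall_mul_mem.mpr fun w hw => Submodule.mem_div_iff_forall_mul_mem.mp hc w (h hw)

/-- Duality preserves lengths. -/
theorem length_div (hfld : maximalIdeal O ≠ ⊥) (ω : Submodule O K)
    [HasInjectiveDimensionLT (ModuleCat.of O ↥ω) 2] (hω0 : ω ≠ ⊥) (hωfg : ω.FG) (L' L : Submodule O K)
    (hle : L' ≤ L) (hL : L.FG) (hL' : L' ≠ ⊥) :
    Module.length O (↥(ω / L') ⧸ (ω / L).comap (ω / L').subtype) =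
      Module.length O (↥L ⧸ L'.comap L.subtype) := by
  have iso : ∀ A B : Submodule O K, A ≤ B → (Submodule O (↥B ⧸ A.comap B.subtype) ≃o Set.Icc A B) :=
    fun A B hAB =>
    { toFun := fun N => ⟨(N.comap (A.comap B.subtype).mkQ).map B.subtype,
        fun a ha => ⟨⟨a, hAB ha⟩, by
          simp [show (Submodule.Quotient.mk (⟨a, hAB ha⟩ : ↥B) : ↥B ⧸ A.comap B.subtype) = 0 from
            (Submodule.Quotient.mk_eq_zero _).mpr ha], rfl⟩,
        Submodule.map_subtype_le B _⟩
      invFun := fun C => (C.1.comap B.subtype).map (A.comap B.subtype).mkQ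
      left_inv := fun N => by
        simp [Submodule.comap_map_eq_of_injective B.subtype_injective,
          Submodule.map_comap_eq_of_surjective (Submodule.mkQ_surjective _)]
      right_inv := fun C => Subtype.ext (by
        dsimp only
        rw [Submodule.comap_map_mkQ, sup_of_le_right (Submodule.comap_mono C.2.1),
          Submodule.map_comap_eq, Submodule.range_subtype, inf_of_le_right C.2.2])
      map_rel_iff' := fun {N N'} => by
        show (N.comap _).map B.subtype ≤ (N'.comap _).map B.subtype ↔ N ≤ N'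
        rw [Submodule.map_le_map_iff_of_injective B.subtype_injective,
          Submodule.comap_le_comap_iff_of_surjective (Submodule.mkQ_surjective _)] }
  haveI : Module.Finite O ↥L := Module.Finite.iff_fg.mpr hL
  have hfgC : ∀ C : Set.Icc L' L, (C : Submodule O K).FG := fun C => by
    simpa [Submodule.range_subtype, Submodule.map_comap_eq, inf_of_le_right C.2.2] using
      (IsNoetherian.noetherian ((C : Submodule O K).comap L.subtype)).map L.subtype
  have hfgE : ∀ C : Set.Icc (ω / L) (ω / L'), (C : Submodule O K).FG := fun C => by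
    haveI : Module.Finite O ↥(ω / L') := Module.Finite.iff_fg.mpr (fg_div ω hωfg L' hL')
    simpa [Submodule.range_subtype, Submodule.map_comap_eq, inf_of_le_right C.2.2] using
      (IsNoetherian.noetherian ((C : Submodule O K).comap (ω / L').subtype)).map (ω / L').subtype
  have hdd := div_div hfld ω hω0 hωfg
  let d : Set.Icc L' L ≃o (Set.Icc (ω / L) (ω / L'))ᵒᵈ :=
    { toFun := fun C => OrderDual.toDual ⟨ω / C.1, div_anti ω C.2.2, div_anti ω C.2.1⟩
      invFun := fun C => ⟨ω / (OrderDual.ofDual C).1,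
        (hdd L' (hfgC ⟨L', le_rfl, hle⟩)).ge.trans (div_anti ω (OrderDual.ofDual C).2.2),
        (div_anti ω (OrderDual.ofDual C).2.1).trans (hdd L hL).le⟩
      left_inv := fun C => Subtype.ext (hdd C.1 (hfgC C))
      right_inv := fun C => congrArg OrderDual.toDual (Subtype.ext (hdd _ (hfgE (OrderDual.ofDual C))))
      map_rel_iff' := fun {C C'} => by
        refine ⟨fun h => ?_, fun h => div_anti ω h⟩
        show C.1 ≤ C'.1
        rw [← hdd C.1 (hfgC C), ← hdd C'.1 (hfgC C')]
        exact div_anti ω h }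
  apply WithBot.coe_injective
  rw [Module.coe_length, Module.coe_length, Order.krullDim_eq_of_orderIso (iso _ _ (div_anti ω hle)),
    Order.krullDim_eq_of_orderIso (iso _ _ hle), Order.krullDim_eq_of_orderIso d, Order.krullDim_orderDual]

omit [IsDomain O] [IsFractionRing O K] [IsNoetherianRing O] [IsLocalRing O] [Ring.DimensionLEOne O] in
theorem length_trans (A B C : Submodule O K) (hAB : A ≤ B) (hBC : B ≤ C) :
    Module.length O (↥C ⧸ A.comap C.subtype) =
      Module.length O (↥B ⧸ A.comap B.subtype) + Module.length O (↥C ⧸ B.comap C.subtype) := by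
  refine Module.length_eq_add_of_exact ((A.comap B.subtype).mapQ (A.comap C.subtype) (Submodule.inclusion hBC)
      (fun x hx => hx)) (Submodule.factor (Submodule.comap_mono hAB)) ?_ (Submodule.factor_surjective _) ?_
  · refine (injective_iff_map_eq_zero _).mpr fun x => ?_
    induction x using Submodule.Quotient.induction_on with
    | H x => intro h; exact (Submodule.Quotient.mk_eq_zero _).mpr (show Submodule.inclusion hBC x ∈ A.comap C.subtype from (Submodule.Quotient.mk_eq_zero _).mp h : _)
  · intro z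
    induction z using Submodule.Quotient.induction_on with
    | H x =>
      constructor
      · intro hx
        exact ⟨Submodule.Quotient.mk ⟨x, (Submodule.Quotient.mk_eq_zero (B.comap C.subtype)).mp hx⟩, rfl⟩
      · rintro ⟨y, hy⟩
        induction y using Submodule.Quotient.induction_on with
        | H y => rw [← hy]; exact (Submodule.Quotient.mk_eq_zero _).mpr y.2

end Groth.Agent.TFCanonLib
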