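import Groth.Agent.TFCanonLib.Basic

/-! Duality into a canonical ideal for torsion-free modules, and its effect on `Ext`. -/

set_option autoImplicit false
set_option maxHeartbeats 400000

universe u

namespace Groth.Agent.TFCanonLib

open IsLocalRing CategoryTheory Abelian

variable {O : Type u} [CommRing O] [IsDomain O] [IsNoetherianRing O] {K : Type u} [Field K] [Algebra O K]
  [IsFractionRing O K] (ω : Submodule O K)

/-- Evaluation into the double dual. -/
def ev (M : Type u) [AddCommGroup M] [Module O M] : M →ₗ[O] ((M →ₗ[O] ↥ω) →ₗ[O] ↥ω) :=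
  (LinearMap.id : (M →ₗ[O] ↥ω) →ₗ[O] M →ₗ[O] ↥ω).flip

omit [IsDomain O] [IsNoetherianRing O] [IsFractionRing O K] in
@[simp] lemma ev_apply {M : Type u} [AddCommGroup M] [Module O M] (m : M) (φ : M →ₗ[O] ↥ω) : ev ω M m φ = φ m := rfl

omit [IsDomain O] [IsNoetherianRing O] [IsFractionRing O K] in
lemma lcomp_comp {A B C : Type u} [AddCommGroup A] [Module O A] [AddCommGroup B] [Module O B] [AddCommGroup C]
    [Module O C] (g : B →ₗ[O] C) (f : A →ₗ[O] B) :
    LinearMap.lcomp O ↥ω (g.comp f) = (LinearMap.lcomp O ↥ω f).comp (LinearMap.lcomp O ↥ω g) := rfl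

omit [IsDomain O] [IsNoetherianRing O] in
lemma comp_extClass_zero {A B C W : Type u} [AddCommGroup A] [Module O A] [AddCommGroup B] [Module O B]
    [AddCommGroup C] [Module O C] [AddCommGroup W] [Module O W] {i : A →ₗ[O] B} {q : B →ₗ[O] C}
    {h : ModuleCat.ofHom i ≫ ModuleCat.ofHom q = 0}
    (hS : (ShortComplex.mk (ModuleCat.ofHom i) (ModuleCat.ofHom q) h).ShortExact) (φ : W →ₗ[O] B) :
    (Ext.mk₀ (ModuleCat.ofHom (q.comp φ))).comp hS.extClass (zero_add 1) = 0 := by
  rw [show ModuleCat.ofHom (q.comp φ) = ModuleCat.ofHom φ ≫ (ShortComplex.mk _ _ h).g from rfl,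
    ← Ext.mk₀_comp_mk₀, Ext.comp_assoc_of_second_deg_zero, hS.comp_extClass, Ext.comp_zero]

omit [IsDomain O] [IsNoetherianRing O] in
lemma extClass_comp_zero {A B C W : Type u} [AddCommGroup A] [Module O A] [AddCommGroup B] [Module O B]
    [AddCommGroup C] [Module O C] [AddCommGroup W] [Module O W] {i : A →ₗ[O] B} {q : B →ₗ[O] C}
    {h : ModuleCat.ofHom i ≫ ModuleCat.ofHom q = 0}
    (hS : (ShortComplex.mk (ModuleCat.ofHom i) (ModuleCat.ofHom q) h).ShortExact) (φ : B →ₗ[O] W) :
    hS.extClass.comp (Ext.mk₀ (ModuleCat.ofHom (φ.comp i))) (add_zero 1) = 0 := by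
  rw [show ModuleCat.ofHom (φ.comp i) = (ShortComplex.mk _ _ h).f ≫ ModuleCat.ofHom φ from rfl,
    ← Ext.mk₀_comp_mk₀, ← Ext.comp_assoc_of_second_deg_zero, hS.extClass_comp, Ext.zero_comp]

omit [IsNoetherianRing O] in
lemma noZeroSMulDivisors_sub : NoZeroSMulDivisors O ↥ω :=
  ⟨fun {a x} h => by
    have h' : a • (x : K) = 0 := congrArg Subtype.val h
    rw [Algebra.smul_def, mul_eq_zero] at h'
    exact h'.imp (fun h => by simpa using h) (fun h => Subtype.ext h)⟩

omit [IsNoetherianRing O] in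
lemma noZeroSMulDivisors_dual (M : Type u) [AddCommGroup M] [Module O M] : NoZeroSMulDivisors O (M →ₗ[O] ↥ω) := by
  haveI := noZeroSMulDivisors_sub ω
  exact ⟨fun {a φ} h => or_iff_not_imp_left.mpr fun ha => LinearMap.ext fun m =>
    (eq_zero_or_eq_zero_of_smul_eq_zero (show a • φ m = 0 from LinearMap.congr_fun h m)).resolve_left ha⟩

omit [IsDomain O] [IsFractionRing O K] in
lemma finite_dual (hωfg : ω.FG) (M : Type u) [AddCommGroup M] [Module O M] [Module.Finite O M] :
    Module.Finite O (M →ₗ[O] ↥ω) := by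
  haveI : Module.Finite O ↥ω := Module.Finite.iff_fg.mpr hωfg
  obtain ⟨n, p, hp⟩ := Module.Finite.exists_fin' O M
  exact Module.Finite.of_injective (LinearMap.lcomp O ↥ω p) fun φ ψ h =>
    LinearMap.ext fun m => by obtain ⟨x, rfl⟩ := hp m; exact LinearMap.congr_fun h x

theorem hasInjectiveDimensionLT_dual_free [hω : HasInjectiveDimensionLT (ModuleCat.of O ↥ω) 2] (n : ℕ) :
    HasInjectiveDimensionLT (ModuleCat.of O ((Fin n → O) →ₗ[O] ↥ω)) 2 := by
  haveI := injective_fractionRing (O := O) (K := K)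
  haveI := injective_quotient ω
  let f : (Fin n → ↥ω) →ₗ[O] (Fin n → K) := LinearMap.pi fun i => ω.subtype.comp (LinearMap.proj i)
  let g : (Fin n → K) →ₗ[O] (Fin n → K ⧸ ω) := LinearMap.pi fun i => ω.mkQ.comp (LinearMap.proj i)
  have hgf : g.comp f = 0 := by ext v i; simp [f, g]
  have hS : (ShortComplex.mk (X₁ := ModuleCat.of O (Fin n → ↥ω)) (X₂ := ModuleCat.of O (Fin n → K))
      (X₃ := ModuleCat.of O (Fin n → K ⧸ ω)) (ModuleCat.ofHom f) (ModuleCat.ofHom g)
      (ModuleCat.hom_ext hgf)).ShortExact :=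
    { exact := (ShortComplex.ShortExact.moduleCat_exact_iff_function_exact _).mpr fun v => by
        constructor
        · intro h
          refine ⟨fun i => ⟨v i, (Submodule.Quotient.mk_eq_zero ω).mp (congrFun h i)⟩, rfl⟩
        · rintro ⟨w, rfl⟩; exact LinearMap.congr_fun hgf w
      mono_f := (ModuleCat.mono_iff_injective _).mpr fun v w h => funext fun i => Subtype.ext (congrFun h i)
      epi_g := (ModuleCat.epi_iff_surjective _).mpr fun v => by
        choose y hy using fun i => ω.mkQ_surjective (v i)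
        exact ⟨y, funext hy⟩ }
  haveI : CategoryTheory.Injective (ModuleCat.of O (Fin n → K)) := Module.injective_object_of_injective_module O _
  haveI : CategoryTheory.Injective (ModuleCat.of O (Fin n → K ⧸ ω)) := Module.injective_object_of_injective_module O _
  haveI : HasInjectiveDimensionLT (ModuleCat.of O (Fin n → ↥ω)) 2 :=
    hS.hasInjectiveDimensionLT_X₁ 1 (injective_iff_hasInjectiveDimensionLT_one.mp inferInstance)
      (hasInjectiveDimensionLT_of_ge _ 1 2 (by omega))
  exact hasInjectiveDimensionLT_of_iso ((Pi.basisFun O (Fin n)).constr O).toModuleIso 2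

/-- Positive `Ext` from torsion-free modules into modules of injective dimension at most one vanish. -/
theorem ext_eq_zero (W : Type u) [AddCommGroup W] [Module O W] [HasInjectiveDimensionLT (ModuleCat.of O W) 2]
    (K : Type u) [Field K] [Algebra O K] [IsFractionRing O K]
    (M : Type u) [AddCommGroup M] [Module O M] [Module.Finite O M] [NoZeroSMulDivisors O M] (i : ℕ)
    (e : Ext (ModuleCat.of O M) (ModuleCat.of O W) (i + 1)) : e = 0 := by
  cases i with
  | succ i => exact Ext.eq_zero_of_hasInjectiveDimensionLT e 2 (by omega)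
  | zero =>
    obtain ⟨n, g, hg⟩ := exists_embedding_free O K M
    have hS : (ShortComplex.mk (X₁ := ModuleCat.of O M) (X₂ := ModuleCat.of O (Fin n → O))
        (X₃ := ModuleCat.of O ((Fin n → O) ⧸ LinearMap.range g)) (ModuleCat.ofHom g)
        (ModuleCat.ofHom (LinearMap.range g).mkQ)
        (ModuleCat.hom_ext (LinearMap.range_mkQ_comp g))).ShortExact :=
      { exact := (ShortComplex.ShortExact.moduleCat_exact_iff_function_exact _).mpr (LinearMap.exact_map_mkQ_range g)
        mono_f := (ModuleCat.mono_iff_injective _).mpr hg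
        epi_g := (ModuleCat.epi_iff_surjective _).mpr (Submodule.mkQ_surjective _) }
    obtain ⟨y, hy⟩ := Ext.contravariant_sequence_exact₁ hS _ e (show 1 + (0 + 1) = 2 from rfl)
      (Ext.eq_zero_of_hasInjectiveDimensionLT _ 2 le_rfl)
    rw [← hy, y.eq_zero_of_projective, Ext.comp_zero]

variable [IsLocalRing O] [Ring.DimensionLEOne O] [HasInjectiveDimensionLT (ModuleCat.of O ↥ω) 2]

theorem exists_end_eq_smul (hfld : maximalIdeal O ≠ ⊥) (hω0 : ω ≠ ⊥) (hωfg : ω.FG) (φ : ↥ω →ₗ[O] ↥ω) :
    ∃ a : O, ∀ w, φ w = a • w := by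
  obtain ⟨c, hc⟩ := exists_eq_mul ω (ω.subtype.comp φ)
  have hc' : c ∈ ω / (ω / Submodule.span O {(1 : K)}) := Submodule.mem_div_iff_forall_mul_mem.mpr fun y hy => by
    have hy' := Submodule.mem_div_iff_forall_mul_mem.mp hy 1 (Submodule.mem_span_singleton_self _)
    rw [mul_one] at hy'
    exact hc ⟨y, hy'⟩ ▸ (φ ⟨y, hy'⟩).2
  rw [div_div hfld ω hω0 hωfg _ (Submodule.fg_span_singleton _)] at hc'
  obtain ⟨a, ha⟩ := Submodule.mem_span_singleton.mp hc'
  refine ⟨a, fun w => Subtype.ext ?_⟩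
  rw [show (φ w : K) = c * (w : K) from hc w, ← ha, Submodule.coe_smul, smul_mul_assoc, one_mul]

/-- Biduality. -/
theorem ev_bijective (hfld : maximalIdeal O ≠ ⊥) (hω0 : ω ≠ ⊥) (hωfg : ω.FG) (M : Type u) [AddCommGroup M]
    [Module O M] [Module.Finite O M] [NoZeroSMulDivisors O M] : Function.Bijective (ev ω M) := by
  classical
  constructor
  · refine (injective_iff_map_eq_zero _).mpr fun m hm => ?_
    by_contra hm0
    obtain ⟨n, f, hf⟩ := exists_embedding_free O K M
    obtain ⟨i, hi⟩ : ∃ i, f m i ≠ 0 := by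
      by_contra h; push Not at h; exact hm0 (hf (by rw [map_zero]; exact funext h))
    obtain ⟨w, hw, hw0⟩ := Submodule.exists_mem_ne_zero_of_ne_bot hω0
    have h := congrArg Subtype.val
      (LinearMap.congr_fun hm ((LinearMap.toSpanSingleton O ↥ω ⟨w, hw⟩).comp ((LinearMap.proj i).comp f)))
    simp only [ev_apply, LinearMap.comp_apply, LinearMap.proj_apply, LinearMap.toSpanSingleton_apply,
      Submodule.coe_smul, Algebra.smul_def, LinearMap.zero_apply, Submodule.coe_zero, mul_eq_zero] at h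
    exact h.elim (fun h => hi (by simpa using h)) hw0
  intro Φ
  obtain ⟨n, p, hp⟩ := Module.Finite.exists_fin' O M
  haveI := finite_dual ω hωfg (Fin n → O)
  let j := (LinearMap.ker p).subtype
  haveI := finite_dual ω hωfg ↥(LinearMap.ker p)
  haveI := noZeroSMulDivisors_dual ω ↥(LinearMap.ker p)
  have hinj : Function.Injective (LinearMap.lcomp O ↥ω p) := fun φ ψ h =>
    LinearMap.ext fun m => by obtain ⟨x, rfl⟩ := hp m; exact LinearMap.congr_fun h x
  obtain ⟨Ψ, hΨ⟩ := dual_surjective ω (M := M →ₗ[O] ↥ω) (N := (Fin n → O) →ₗ[O] ↥ω)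
    (P := ↥(LinearMap.ker p) →ₗ[O] ↥ω) (LinearMap.lcomp O ↥ω p) (LinearMap.lcomp O ↥ω j) hinj
    (fun φ => dual_surjective ω j p Subtype.val_injective hp (LinearMap.exact_subtype_ker_map p) φ) (fun f => by
      constructor
      · intro h
        refine ⟨((LinearMap.ker p).liftQ f fun x hx => LinearMap.congr_fun h ⟨x, hx⟩).comp
          (p.quotKerEquivOfSurjective hp).symm.toLinearMap, LinearMap.ext fun x => ?_⟩
        simp [LinearMap.lcomp_apply', (LinearEquiv.symm_apply_eq (p.quotKerEquivOfSurjective hp)).mpr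
          (show p x = p.quotKerEquivOfSurjective hp (Submodule.Quotient.mk x) from rfl)]
      · rintro ⟨φ, rfl⟩
        refine LinearMap.ext fun x => ?_
        show φ (p x) = 0
        rw [x.2, map_zero]) Φ
  choose a ha using fun i : Fin n => exists_end_eq_smul ω hfld hω0 hωfg
    (Ψ.comp ((LinearMap.lcomp O ↥ω (LinearMap.proj i : (Fin n → O) →ₗ[O] O)).comp
      (LinearMap.ringLmapEquivSelf O O ↥ω).symm.toLinearMap))
  refine ⟨p a, LinearMap.ext fun φ => ?_⟩
  have hdec : φ.comp p = ∑ i, LinearMap.lcomp O ↥ω (LinearMap.proj i : (Fin n → O) →ₗ[O] O)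
      ((LinearMap.ringLmapEquivSelf O O ↥ω).symm (φ (p (Pi.single i 1)))) :=
    (Pi.basisFun O (Fin n)).ext fun l => by
      simp [LinearMap.lcomp_apply', Finset.sum_apply, Pi.single_apply]
  rw [ev_apply, ← LinearMap.congr_fun hΨ φ, LinearMap.comp_apply, LinearMap.lcomp_apply', hdec, map_sum]
  have : ∀ i, Ψ (LinearMap.lcomp O ↥ω (LinearMap.proj i : (Fin n → O) →ₗ[O] O)
      ((LinearMap.ringLmapEquivSelf O O ↥ω).symm (φ (p (Pi.single i 1))))) = a i • φ (p (Pi.single i 1)) :=
    fun i => ha i _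
  simp only [this, ← map_smul, ← map_sum]
  congr 2
  ext l
  simp [Finset.sum_apply, Pi.single_apply]

section

variable (hfld : maximalIdeal O ≠ ⊥) (hω0 : ω ≠ ⊥) (hωfg : ω.FG)
include hfld hω0 hωfg

/-- Dualising identifies the two `Hom` groups. -/
theorem dualMap_bijective (M N : Type u) [AddCommGroup M] [Module O M] [Module.Finite O M]
    [NoZeroSMulDivisors O M] [AddCommGroup N] [Module O N] [Module.Finite O N] [NoZeroSMulDivisors O N] :
    Function.Bijective (fun f : M →ₗ[O] N => LinearMap.lcomp O ↥ω f) := by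
  have hN := ev_bijective ω hfld hω0 hωfg N
  refine ⟨fun f g h => LinearMap.ext fun m => hN.1 (LinearMap.ext fun φ =>
    LinearMap.congr_fun (LinearMap.congr_fun h φ) m), fun g => ?_⟩
  refine ⟨(LinearEquiv.ofBijective _ hN).symm.toLinearMap.comp ((LinearMap.lcomp O ↥ω g).comp (ev ω M)),
    LinearMap.ext fun φ => LinearMap.ext fun m => ?_⟩
  show φ ((LinearEquiv.ofBijective _ hN).symm (LinearMap.lcomp O ↥ω g (ev ω M m))) = g φ m
  rw [← ev_apply ω ((LinearEquiv.ofBijective _ hN).symm _) φ]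
  show (LinearEquiv.ofBijective _ hN) ((LinearEquiv.ofBijective _ hN).symm _) φ = g φ m
  rw [LinearEquiv.apply_symm_apply]
  rfl

/-- `Ext` of torsion-free modules is invariant under duality. -/
theorem nonempty_ext_equiv : ∀ (i : ℕ) (M N : Type u) [AddCommGroup M] [Module O M] [Module.Finite O M]
    [NoZeroSMulDivisors O M] [AddCommGroup N] [Module O N] [Module.Finite O N] [NoZeroSMulDivisors O N],
    Nonempty (Ext (ModuleCat.of O M) (ModuleCat.of O N) (i + 1) ≃+
      Ext (ModuleCat.of O (N →ₗ[O] ↥ω)) (ModuleCat.of O (M →ₗ[O] ↥ω)) (i + 1)) := by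
  intro i
  induction i using Nat.strong_induction_on with | _ i ih => ?_
  intro M N _ _ _ _ _ _ _ _
  obtain ⟨n, p, hp⟩ := Module.Finite.exists_fin' O M
  let j := (LinearMap.ker p).subtype
  haveI : NoZeroSMulDivisors O ↥(LinearMap.ker p) := ⟨fun {a x} h => by
    rcases eq_or_ne a 0 with h0 | h0
    · exact Or.inl h0
    · refine Or.inr (Subtype.ext (funext fun l => ?_))
      have h' : a * (x : Fin n → O) l = 0 := congrFun (congrArg Subtype.val h) l
      exact (mul_eq_zero.mp h').resolve_left h0⟩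
  haveI := finite_dual ω hωfg N
  haveI := noZeroSMulDivisors_dual ω N
  haveI := hasInjectiveDimensionLT_dual_free ω n
  have hS : (ShortComplex.mk (X₁ := ModuleCat.of O ↥(LinearMap.ker p)) (X₂ := ModuleCat.of O (Fin n → O))
      (X₃ := ModuleCat.of O M) (ModuleCat.ofHom j) (ModuleCat.ofHom p)
      (ModuleCat.hom_ext (LinearMap.comp_ker_subtype p))).ShortExact :=
    { exact := (ShortComplex.ShortExact.moduleCat_exact_iff_function_exact _).mpr (LinearMap.exact_subtype_ker_map p)
      mono_f := (ModuleCat.mono_iff_injective _).mpr Subtype.val_injective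
      epi_g := (ModuleCat.epi_iff_surjective _).mpr hp }
  have hzero : (LinearMap.lcomp O ↥ω j).comp (LinearMap.lcomp O ↥ω p) = 0 :=
    LinearMap.ext fun φ => LinearMap.ext fun x => show φ (p x) = 0 by rw [x.2, map_zero]
  have hS' : (ShortComplex.mk (X₁ := ModuleCat.of O (M →ₗ[O] ↥ω)) (X₂ := ModuleCat.of O ((Fin n → O) →ₗ[O] ↥ω))
      (X₃ := ModuleCat.of O (↥(LinearMap.ker p) →ₗ[O] ↥ω)) (ModuleCat.ofHom (LinearMap.lcomp O ↥ω p))
      (ModuleCat.ofHom (LinearMap.lcomp O ↥ω j)) (ModuleCat.hom_ext hzero)).ShortExact :=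
    { exact := (ShortComplex.ShortExact.moduleCat_exact_iff_function_exact _).mpr fun f => by
        constructor
        · intro h
          refine ⟨((LinearMap.ker p).liftQ f fun x hx => LinearMap.congr_fun h ⟨x, hx⟩).comp
            (p.quotKerEquivOfSurjective hp).symm.toLinearMap, LinearMap.ext fun x => ?_⟩
          simp [LinearMap.lcomp_apply', (LinearEquiv.symm_apply_eq (p.quotKerEquivOfSurjective hp)).mpr
            (show p x = p.quotKerEquivOfSurjective hp (Submodule.Quotient.mk x) from rfl)]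
        · rintro ⟨φ, rfl⟩
          exact LinearMap.congr_fun hzero φ
      mono_f := (ModuleCat.mono_iff_injective _).mpr fun φ ψ h =>
        LinearMap.ext fun m => by obtain ⟨x, rfl⟩ := hp m; exact LinearMap.congr_fun h x
      epi_g := (ModuleCat.epi_iff_surjective _).mpr fun φ =>
        dual_surjective ω j p Subtype.val_injective hp (LinearMap.exact_subtype_ker_map p) φ }
  have hv : ∀ (l : ℕ) (e : Ext (ModuleCat.of O (N →ₗ[O] ↥ω)) (ModuleCat.of O ((Fin n → O) →ₗ[O] ↥ω)) (l + 1)),
      e = 0 := fun l e => ext_eq_zero _ K _ l e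
  rcases i with _ | i
  swap
  · obtain ⟨E⟩ := ih i (Nat.lt_succ_self i) ↥(LinearMap.ker p) N
    let α : Ext (ModuleCat.of O ↥(LinearMap.ker p)) (ModuleCat.of O N) (i + 1) →+
        Ext (ModuleCat.of O M) (ModuleCat.of O N) (i + 1 + 1) :=
      AddMonoidHom.mk' (fun x => hS.extClass.comp x (add_comm 1 (i + 1))) fun x y => Ext.comp_add ..
    have hα : Function.Bijective α := by
      refine ⟨(injective_iff_map_eq_zero α).mpr fun x hx => ?_, fun y => ?_⟩
      · obtain ⟨z, hz⟩ := Ext.contravariant_sequence_exact₁ hS _ x (add_comm 1 (i + 1)) hx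
        rw [← hz, z.eq_zero_of_projective, Ext.comp_zero]
      · exact Ext.contravariant_sequence_exact₃ hS _ y (Ext.eq_zero_of_projective _) (add_comm 1 (i + 1))
    let β : Ext (ModuleCat.of O (N →ₗ[O] ↥ω)) (ModuleCat.of O (↥(LinearMap.ker p) →ₗ[O] ↥ω)) (i + 1) →+
        Ext (ModuleCat.of O (N →ₗ[O] ↥ω)) (ModuleCat.of O (M →ₗ[O] ↥ω)) (i + 1 + 1) :=
      AddMonoidHom.mk' (fun x => x.comp hS'.extClass rfl) fun x y => Ext.add_comp ..
    have hβ : Function.Bijective β := by
      refine ⟨(injective_iff_map_eq_zero β).mpr fun x hx => ?_, fun y => ?_⟩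
      · obtain ⟨z, hz⟩ := Ext.covariant_sequence_exact₃ _ hS' x rfl hx
        rw [← hz, hv i z, Ext.zero_comp]
      · exact Ext.covariant_sequence_exact₁ _ hS' y (hv (i + 1) _) rfl
    exact ⟨((AddEquiv.ofBijective α hα).symm.trans E).trans (AddEquiv.ofBijective β hβ)⟩
  · let θ : (↥(LinearMap.ker p) →ₗ[O] N) →+ Ext (ModuleCat.of O M) (ModuleCat.of O N) 1 :=
      AddMonoidHom.mk' (fun f => hS.extClass.comp (Ext.mk₀ (ModuleCat.ofHom f)) rfl) fun f g => by
        show _ = _; rw [← Ext.comp_add, ← Ext.mk₀_add]; rfl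
    let θ' : (↥(LinearMap.ker p) →ₗ[O] N) →+
        Ext (ModuleCat.of O (N →ₗ[O] ↥ω)) (ModuleCat.of O (M →ₗ[O] ↥ω)) 1 :=
      AddMonoidHom.mk' (fun f => (Ext.mk₀ (ModuleCat.ofHom (LinearMap.lcomp O ↥ω f))).comp hS'.extClass rfl)
        fun f g => by
          show _ = _; rw [← Ext.add_comp, ← Ext.mk₀_add]
          congr 2; ext φ x; exact congrArg Subtype.val (map_add φ (f x) (g x))
    have hθ : Function.Surjective θ := fun y => by
      obtain ⟨x, hx⟩ := Ext.contravariant_sequence_exact₃ hS _ y (Ext.eq_zero_of_projective _) (show 1 + 0 = 1 from rfl)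
      obtain ⟨f, rfl⟩ := (Ext.mk₀_bijective _ _).2 x
      exact ⟨f.hom, hx⟩
    have hθ' : Function.Surjective θ' := fun y => by
      obtain ⟨x, hx⟩ := Ext.covariant_sequence_exact₁ _ hS' y (hv 0 _) rfl
      obtain ⟨g, rfl⟩ := (Ext.mk₀_bijective _ _).2 x
      obtain ⟨f, hf⟩ := (dualMap_bijective ω hfld hω0 hωfg ↥(LinearMap.ker p) N).2 g.hom
      refine ⟨f, ?_⟩
      show (Ext.mk₀ (ModuleCat.ofHom (LinearMap.lcomp O ↥ω f))).comp hS'.extClass rfl = y
      rw [show LinearMap.lcomp O ↥ω f = g.hom from hf]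
      exact hx
    have hker : θ.ker = θ'.ker := by
      ext f
      simp only [AddMonoidHom.mem_ker]
      constructor
      · intro h
        obtain ⟨x, hx⟩ := Ext.contravariant_sequence_exact₁ hS _ _ (rfl : 1 + 0 = 1) h
        obtain ⟨g, rfl⟩ : ∃ g : ModuleCat.of O (Fin n → O) ⟶ ModuleCat.of O N, Ext.mk₀ g = x :=
          (Ext.mk₀_bijective _ _).2 x
        rw [Ext.mk₀_comp_mk₀] at hx
        have hfg : f = g.hom.comp j := (congrArg ModuleCat.Hom.hom ((Ext.mk₀_bijective _ _).1 hx)).symm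
        show (Ext.mk₀ _).comp hS'.extClass rfl = 0
        let g' : (Fin n → O) →ₗ[O] N := g.hom
        have hfg' : f = g'.comp j := hfg
        subst hfg'
        rw [lcomp_comp]
        have hz := comp_extClass_zero (W := N →ₗ[O] ↥ω) hS' (LinearMap.lcomp O ↥ω g')
        exact hz
      · intro h
        obtain ⟨x, hx⟩ := Ext.covariant_sequence_exact₃ _ hS' _ (rfl : 0 + 1 = 1) h
        obtain ⟨g, rfl⟩ := (Ext.mk₀_bijective _ _).2 x
        rw [Ext.mk₀_comp_mk₀] at hx
        obtain ⟨h', hh'⟩ := (dualMap_bijective ω hfld hω0 hωfg (Fin n → O) N).2 g.hom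
        have hfg : f = h'.comp j := (dualMap_bijective ω hfld hω0 hωfg ↥(LinearMap.ker p) N).1 (by
          have := congrArg ModuleCat.Hom.hom ((Ext.mk₀_bijective _ _).1 hx)
          refine this.symm.trans ?_
          show (LinearMap.lcomp O ↥ω j).comp g.hom = _
          rw [← show LinearMap.lcomp O ↥ω h' = g.hom from hh']
          rfl)
        show hS.extClass.comp (Ext.mk₀ (ModuleCat.ofHom f)) rfl = 0
        subst hfg
        exact extClass_comp_zero hS h'
    exact ⟨((QuotientAddGroup.quotientKerEquivOfSurjective θ hθ).symm.trans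
      (QuotientAddGroup.quotientAddEquivOfEq hker)).trans (QuotientAddGroup.quotientKerEquivOfSurjective θ' hθ')⟩

end

end Groth.Agent.TFCanonLib
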