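import Groth.Agent.TFCanonLib.Basic

/-! Curve singularities inside `k[[t]]`: basic properties and duality of value sets. -/

set_option autoImplicit false

universe u

namespace Groth.Agent.TFCanonLib

open PowerSeries IsLocalRing CategoryTheory

variable {k : Type u} [Field k] (A : Subalgebra k (PowerSeries k))

theorem isLocalRing_subalgebra [Module.Finite ↥A (PowerSeries k)] : IsLocalRing ↥A :=
  RingHom.domain_isLocalRing (algebraMap ↥A (PowerSeries k))

theorem dimensionLEOne_subalgebra [Module.Finite ↥A (PowerSeries k)] : Ring.DimensionLEOne ↥A := by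
  refine ⟨fun {p} hne hp => ?_⟩
  haveI := hp
  obtain ⟨Q, -, hQp, hQ⟩ := Ideal.exists_ideal_over_prime_of_isIntegral p (⊥ : Ideal (PowerSeries k))
    (by rw [Ideal.comap_bot_of_injective _ Subtype.val_injective]; exact bot_le)
  haveI : Q.IsMaximal := hQp.isMaximal fun h => hne <| by
    rw [← hQ, h, Ideal.comap_bot_of_injective _ Subtype.val_injective]
  rw [← hQ]
  exact Ideal.isMaximal_comap_of_isIntegral_of_isMaximal Q

theorem isNoetherianRing_subalgebra [Module.Finite ↥A (PowerSeries k)] {c : ℕ}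
    (hc : ∀ f : PowerSeries k, X ^ c ∣ f → f ∈ A) : IsNoetherianRing ↥A := by
  refine ⟨fun I => ?_⟩
  by_cases hI : I = ⊥
  · subst hI; exact Submodule.fg_bot
  obtain ⟨a, ha, ha0⟩ := Submodule.exists_mem_ne_zero_of_ne_bot hI
  let ψ : PowerSeries k →ₗ[↥A] ↥A :=
    { toFun := fun r => a * ⟨X ^ c * r, hc _ (dvd_mul_right _ _)⟩
      map_add' := fun r r' => Subtype.ext (show (a : PowerSeries k) * (X ^ c * (r + r')) = (a : PowerSeries k) * (X ^ c * r) + (a : PowerSeries k) * (X ^ c * r') by ring)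
      map_smul' := fun b r => Subtype.ext (show (a : PowerSeries k) * (X ^ c * ((b : PowerSeries k) * r)) = (b : PowerSeries k) * ((a : PowerSeries k) * (X ^ c * r)) by ring) }
  have hψ : LinearMap.range ψ ≤ I := by
    rintro _ ⟨r, rfl⟩
    exact Ideal.mul_mem_right _ _ ha
  have ha0' : (a : PowerSeries k) * X ^ c ≠ 0 :=
    mul_ne_zero (fun h => ha0 (Subtype.ext h)) (pow_ne_zero _ X_ne_zero)
  obtain ⟨m, hm⟩ := ENat.ne_top_iff_exists.mp (order_eq_top.not.mpr ha0')
  obtain ⟨g, hg⟩ : X ^ m ∣ (a : PowerSeries k) * X ^ c :=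
    X_pow_dvd_iff.mpr fun i hi => coeff_of_lt_order i (by rw [← hm]; exact_mod_cast hi)
  have hu : IsUnit g := by
    rw [isUnit_iff_constantCoeff, isUnit_iff_ne_zero, ← coeff_zero_eq_constantCoeff_apply]
    intro h0
    refine (order_eq_nat.mp hm.symm).1 ?_
    rw [hg]
    simpa [coeff_X_pow_mul'] using h0
  obtain ⟨g', hg'⟩ := hu.exists_right_inv
  -- the elements of `I` modulo `X ^ m`
  let T : ↥A →ₗ[k] (Fin m → k) := LinearMap.pi fun i => (coeff (i : ℕ)).comp A.val.toLinearMap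
  obtain ⟨s, hs⟩ := IsNoetherian.noetherian (Submodule.span k (T '' (I : Set ↥A)))
  have hsub : ∀ v ∈ s, v ∈ Submodule.span k (T '' (I : Set ↥A)) := fun v hv => hs ▸ Submodule.subset_span hv
  obtain ⟨t, ht, hst⟩ : ∃ t : Finset ↥A, (↑t : Set ↥A) ⊆ I ∧ Submodule.span k (T '' (I : Set ↥A)) ≤ Submodule.span k (T '' ↑t) := by
    classical
    obtain ⟨t', ht', hspan⟩ := Submodule.subset_span_finite_of_subset_span (t := s) hsub
    choose pre hpre hpre' using fun v : ↥t' => ht' v.2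
    refine ⟨Finset.univ.image pre, ?_, hs.ge.trans (Submodule.span_le.mpr fun v hv => Submodule.span_mono ?_ (hspan hv))⟩
    · rw [Finset.coe_image]; rintro _ ⟨v, -, rfl⟩; exact hpre v
    · intro w hw
      exact ⟨pre ⟨w, hw⟩, by simp, hpre' _⟩
  have hI' : I = Submodule.span ↥A ↑t ⊔ LinearMap.range ψ := by
    refine le_antisymm (fun x hx => ?_) (sup_le (Submodule.span_le.mpr ht) hψ)
    have hTx := hst (Submodule.subset_span (Set.mem_image_of_mem T hx))
    rw [Submodule.span_image] at hTx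
    obtain ⟨y, hy, hyx⟩ := hTx
    have hy' : y ∈ Submodule.span ↥A (↑t : Set ↥A) := Submodule.span_le_restrictScalars k ↥A _ hy
    have hdiv : X ^ m ∣ ((x : PowerSeries k) - (y : PowerSeries k)) := X_pow_dvd_iff.mpr fun i hi => by
      rw [map_sub, sub_eq_zero]
      exact (congrFun hyx ⟨i, hi⟩).symm
    obtain ⟨r, hr⟩ := hdiv
    refine Submodule.mem_sup.mpr ⟨y, hy', ψ (g' * r), ⟨_, rfl⟩, Subtype.ext ?_⟩
    show (y : PowerSeries k) + (a : PowerSeries k) * (X ^ c * (g' * r)) = (x : PowerSeries k)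
    rw [← mul_assoc, hg, mul_assoc, ← mul_assoc g, hg', one_mul, ← hr]
    ring
  rw [hI']
  refine (Submodule.fg_span t.finite_toSet).sup ?_
  rw [LinearMap.range_eq_map]
  exact (Module.Finite.fg_top).map ψ

theorem isFractionRing_subalgebra {c : ℕ} (hc : ∀ f : PowerSeries k, X ^ c ∣ f → f ∈ A)
    (F : Type u) [Field F] [Algebra (PowerSeries k) F] [IsFractionRing (PowerSeries k) F] : IsFractionRing ↥A F := by
  have hinj : Function.Injective (algebraMap ↥A F) := by
    rw [IsScalarTower.algebraMap_eq ↥A (PowerSeries k) F]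
    exact (IsFractionRing.injective (PowerSeries k) F).comp Subtype.val_injective
  refine ⟨⟨fun y => ?_, fun z => ?_, fun {x y} h => ⟨1, by rw [hinj h]⟩⟩⟩
  · exact ((map_ne_zero_iff _ hinj).mpr (nonZeroDivisors.ne_zero y.2)).isUnit
  · obtain ⟨p, q, hq, rfl⟩ := IsFractionRing.div_surjective (PowerSeries k) z
    refine ⟨(⟨X ^ c * p, hc _ (dvd_mul_right _ _)⟩, ⟨⟨X ^ c * q, hc _ (dvd_mul_right _ _)⟩,
      mem_nonZeroDivisors_of_ne_zero fun h => mul_ne_zero (pow_ne_zero c X_ne_zero) (nonZeroDivisors.ne_zero hq) (congrArg Subtype.val h)⟩), ?_⟩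
    have hq' : algebraMap (PowerSeries k) F q ≠ 0 := by
      simpa using nonZeroDivisors.ne_zero hq
    rw [IsScalarTower.algebraMap_apply ↥A (PowerSeries k) F, IsScalarTower.algebraMap_apply ↥A (PowerSeries k) F]
    show _ * algebraMap _ F (X ^ c * q) = algebraMap _ F (X ^ c * p)
    rw [map_mul, map_mul]
    field_simp

theorem maximalIdeal_ne_bot [IsLocalRing ↥A] {c : ℕ} (hc : ∀ f : PowerSeries k, X ^ c ∣ f → f ∈ A) :
    maximalIdeal ↥A ≠ ⊥ := fun h => by
  have hmem : (⟨X ^ (c + 1), hc _ (pow_dvd_pow _ (Nat.le_succ c))⟩ : ↥A) ∈ maximalIdeal ↥A := fun hu => by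
    have := hu.map A.val
    rw [isUnit_iff_constantCoeff] at this
    simp at this
  rw [h, Ideal.mem_bot] at hmem
  exact pow_ne_zero (c + 1) X_ne_zero (congrArg Subtype.val hmem)

variable [Module.Finite ↥A (PowerSeries k)] {c : ℕ}

/-- The orders of multipliers into a canonical ideal are dual to the orders of the module. -/
theorem exists_order_mul_mem_iff (hc : ∀ f : PowerSeries k, X ^ c ∣ f → f ∈ A) (hc0 : c ≠ 0)
    (hcmin : ¬ ∀ f : PowerSeries k, X ^ (c - 1) ∣ f → f ∈ A) (ω : Submodule ↥A (PowerSeries k))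
    (hω1 : (1 : PowerSeries k) ∈ ω) (hωfg : ω.FG) (hωinj : HasInjectiveDimensionLT (ModuleCat.of ↥A ↥ω) 2)
    (M : Submodule ↥A (PowerSeries k)) (hM : M.FG) (hM1 : (1 : PowerSeries k) ∈ M) (n : ℕ) :
    (∃ u : PowerSeries k, order u = n ∧ ∀ m ∈ M, u * m ∈ ω) ↔
      (c ≤ n ∨ ¬ ∃ m ∈ M, order m = ((c - 1 - n : ℕ) : ℕ∞)) := by
  haveI := isLocalRing_subalgebra A
  haveI := dimensionLEOne_subalgebra A
  haveI := isNoetherianRing_subalgebra A hc
  let F := FractionRing (PowerSeries k)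
  haveI : IsFractionRing ↥A F := isFractionRing_subalgebra A hc F
  have hfld := maximalIdeal_ne_bot A hc
  let ι : PowerSeries k →ₗ[↥A] F := (Algebra.linearMap (PowerSeries k) F).restrictScalars ↥A
  have hι : Function.Injective ι := IsFractionRing.injective (PowerSeries k) F
  have hιmul : ∀ x y, ι (x * y) = ι x * ι y := fun x y => map_mul (algebraMap (PowerSeries k) F) x y
  have hι1 : ι 1 = 1 := map_one (algebraMap (PowerSeries k) F)
  let ω' : Submodule ↥A F := ω.map ι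
  haveI : HasInjectiveDimensionLT (ModuleCat.of ↥A ↥ω') 2 :=
    hasInjectiveDimensionLT_of_iso (X := ModuleCat.of ↥A ↥ω) (Submodule.equivMapOfInjective ι hι ω).toModuleIso 2
  have hω'0 : ω' ≠ ⊥ := fun h => one_ne_zero (α := F) ((Submodule.mem_bot ↥A).mp
    (h ▸ (⟨1, hω1, hι1⟩ : (1 : F) ∈ ω')))
  -- `ω` has no element of order `c - 1`
  have hXc : ∀ f : PowerSeries k, X ^ c ∣ f → f ∈ ω := fun f hf => by
    simpa [Subalgebra.smul_def] using ω.smul_mem ⟨f, hc f hf⟩ hω1
  have htop : (⊤ : Submodule ↥A (PowerSeries k)).FG := Module.Finite.fg_top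
  have hno : ∀ f ∈ ω, order f ≠ ((c - 1 : ℕ) : ℕ∞) := fun f hf hfo => hcmin fun g hg => by
    -- then `X^(c-1) k[[t]] ⊆ ω`, so it lies in `ω : (ω : 1) = A`
    have hall : ∀ g : PowerSeries k, X ^ (c - 1) ∣ g → g ∈ ω := fun g hg => by
      obtain ⟨hf1, hf2⟩ := order_eq_nat.mp hfo
      have hd : X ^ c ∣ g - C (coeff (c - 1) g / coeff (c - 1) f) * f := X_pow_dvd_iff.mpr fun i hi => by
        rw [map_sub, coeff_C_mul]
        rcases lt_or_eq_of_le (show i ≤ c - 1 by omega) with h | rfl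
        · rw [X_pow_dvd_iff.mp hg i h, hf2 i h, mul_zero, sub_zero]
        · rw [div_mul_cancel₀ _ hf1, sub_self]
      have h2 := add_mem (hXc _ hd) (ω.smul_mem
        (⟨C (coeff (c - 1) g / coeff (c - 1) f), A.algebraMap_mem _⟩ : ↥A) hf)
      simpa [Subalgebra.smul_def] using h2
    have hmem : ι g ∈ ω' / (ω' / (Submodule.span ↥A {(1 : F)})) :=
      Submodule.mem_div_iff_forall_mul_mem.mpr fun y hy => by
        have hy' := Submodule.mem_div_iff_forall_mul_mem.mp hy 1 (Submodule.mem_span_singleton_self _)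
        rw [mul_one] at hy'
        obtain ⟨w, hw, rfl⟩ := hy'
        exact ⟨g * w, hall _ (hg.mul_right w), hιmul g w⟩
    rw [div_div hfld ω' hω'0 (hωfg.map ι) _ (Submodule.fg_span_singleton _)] at hmem
    obtain ⟨a, ha⟩ := Submodule.mem_span_singleton.mp hmem
    rw [← hι1, ← map_smul] at ha
    have := hι ha
    rw [← this, Subalgebra.smul_def, smul_eq_mul, mul_one]
    exact a.2
  constructor
  · rintro ⟨u, hu, huM⟩
    refine or_iff_not_imp_left.mpr fun hn => fun ⟨m, hm, hmo⟩ => hno _ (huM m hm) ?_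
    rw [order_mul, hu, hmo, ← Nat.cast_add]
    congr 1
    omega
  intro h
  rcases le_or_gt c n with hn | hn
  · exact ⟨X ^ n, order_X_pow n, fun m _ => hXc _ ((pow_dvd_pow _ hn).mul_right m)⟩
  have hnot := h.resolve_left (not_le.mpr hn)
  -- compare two adjacent lattices
  let R : ℕ → Submodule ↥A (PowerSeries k) := fun j =>
    (Ideal.span {(X : PowerSeries k) ^ j}).restrictScalars ↥A
  have hR : ∀ j f, f ∈ R j ↔ X ^ j ∣ f := fun j f => Ideal.mem_span_singleton
  haveI : IsNoetherian ↥A (PowerSeries k) := isNoetherian_of_isNoetherianRing_of_finite _ _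
  have hfg : ∀ j, (M ⊔ R j).FG := fun j => IsNoetherian.noetherian _
  set j := c - 1 - n with hj
  have hX : X ^ j ∉ M ⊔ R (j + 1) := fun hmem => by
    obtain ⟨m, hm, r, hr, hmr⟩ := Submodule.mem_sup.mp hmem
    refine hnot ⟨m, hm, order_eq_nat.mpr ⟨?_, fun i hi => ?_⟩⟩
    · rw [eq_sub_of_add_eq hmr, map_sub, coeff_X_pow_self, X_pow_dvd_iff.mp ((hR _ _).mp hr) j (by omega)]
      simp
    · rw [eq_sub_of_add_eq hmr, map_sub, coeff_X_pow, if_neg (by omega),
        X_pow_dvd_iff.mp ((hR _ _).mp hr) i (by omega), sub_zero]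
  have hne : ¬ ω' / (M ⊔ R (j + 1)).map ι ≤ ω' / (M ⊔ R j).map ι := fun hle => hX <| by
    have h2 := div_anti ω' hle
    rw [div_div hfld ω' hω'0 (hωfg.map ι) _ ((hfg j).map ι),
      div_div hfld ω' hω'0 (hωfg.map ι) _ ((hfg (j + 1)).map ι)] at h2
    obtain ⟨x, hx, hxe⟩ := h2 ⟨X ^ j, Submodule.mem_sup_right ((hR _ _).mpr dvd_rfl), rfl⟩
    rwa [← hι hxe]
  obtain ⟨z, hz, hz'⟩ := SetLike.not_le_iff_exists.mp hne
  -- `z` is a power series because `1 ∈ M`
  obtain ⟨u, huω, hu⟩ := Submodule.mem_div_iff_forall_mul_mem.mp hz 1 ⟨1, Submodule.mem_sup_left hM1, hι1⟩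
  rw [mul_one] at hu
  subst hu
  have huL : ∀ x ∈ M ⊔ R (j + 1), u * x ∈ ω := fun x hx => by
    obtain ⟨w, hw, hwe⟩ := Submodule.mem_div_iff_forall_mul_mem.mp hz (ι x) ⟨x, hx, rfl⟩
    rw [← hιmul] at hwe
    rwa [← hι hwe]
  have hu0 : u ≠ 0 := fun h => hz' <| by rw [h, map_zero]; exact zero_mem _
  obtain ⟨r, hr⟩ := ENat.ne_top_iff_exists.mp (order_eq_top.not.mpr hu0)
  refine ⟨u, ?_, fun m hm => huL m (Submodule.mem_sup_left hm)⟩
  rw [← hr]
  congr 1
  refine le_antisymm ?_ ?_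
  · by_contra hlt
    push Not at hlt
    apply hz'
    refine Submodule.mem_div_iff_forall_mul_mem.mpr ?_
    rintro _ ⟨x, hx, rfl⟩
    obtain ⟨m, hm, y, hy, rfl⟩ := Submodule.mem_sup.mp hx
    refine ⟨u * (m + y), ?_, hιmul _ _⟩
    rw [mul_add]
    refine add_mem (huL m (Submodule.mem_sup_left hm)) (hXc _ ?_)
    have h1 : X ^ r ∣ u := X_pow_dvd_iff.mpr fun i hi => coeff_of_lt_order i (by rw [← hr]; exact_mod_cast hi)
    exact (pow_dvd_pow _ (by omega : c ≤ r + j)).trans (by rw [pow_add]; exact mul_dvd_mul h1 ((hR _ _).mp hy))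
  · by_contra hlt
    push Not at hlt
    refine hno _ (huL (X ^ (c - 1 - r)) (Submodule.mem_sup_right ((hR _ _).mpr (pow_dvd_pow _ (by omega))))) ?_
    rw [order_mul, ← hr, order_X_pow, ← Nat.cast_add]
    congr 1
    omega

end Groth.Agent.TFCanonLib
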