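import Groth.Agent.TFCanonLib.Ext
import Groth.Agent.TFCanonLib.PowerSeries

/-! Lengths of self-extensions of monomial modules over the cubical semigroup rings. -/

set_option autoImplicit false
set_option maxHeartbeats 2000000

universe u

namespace Groth.Agent.TFCanonLib

open PowerSeries CategoryTheory Abelian

variable {k : Type u} [Field k] (A : Subalgebra k (PowerSeries k)) {n : ℕ}

/-- The exponents of a monomial module. -/
def expo (n : ℕ) (S : Finset ℕ) : Set ℕ := {m | m = 0 ∨ n ≤ m ∨ m ∈ S}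

/-- The augmentation. -/
@[reducible] noncomputable def augAlgebra : Algebra ↥A k := ((constantCoeff (R := k)).comp A.val.toRingHom).toAlgebra

theorem coeff_mul_of_mem (hA : ∀ f : PowerSeries k, f ∈ A ↔ ∀ m : ℕ, coeff m f ≠ 0 → (m = 0 ∨ n ≤ m))
    (g : ↥A) (f : PowerSeries k) {a : ℕ} (ha : a < n) :
    coeff a ((g : PowerSeries k) * f) = constantCoeff (g : PowerSeries k) * coeff a f := by
  rw [coeff_mul, Finset.sum_eq_single (0, a)]
  · rw [coeff_zero_eq_constantCoeff_apply]
  · intro p hp hne
    rw [Finset.HasAntidiagonal.mem_antidiagonal] at hp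
    by_contra h
    rcases (hA _).mp g.2 p.1 (left_ne_zero_of_mul h) with h0 | h0
    · exact hne (Prod.ext h0 (by omega))
    · omega
  · intro h
    exact absurd (Finset.HasAntidiagonal.mem_antidiagonal.mpr (zero_add a)) h

theorem length_fun_aug (ι : Type) [Fintype ι] : letI := augAlgebra A; Module.length ↥A (ι → k) = Fintype.card ι := by
  letI := augAlgebra A
  rw [Module.length_eq_of_surjective (R := k) (fun c => ⟨algebraMap k ↥A c, by
    show constantCoeff (C c) = c
    simp⟩), Module.length_eq_finrank, Module.finrank_fintype_fun_eq_card]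

theorem exact_comp_subtype_mkQ {O : Type u} [Ring O] {P F : Type u} [AddCommGroup P] [Module O P] [AddCommGroup F]
    [Module O F] (ι : P →ₗ[O] F) (M : Submodule O P) : Function.Exact (ι.comp M.subtype) (M.map ι).mkQ :=
  LinearMap.exact_iff.mpr (by rw [Submodule.ker_mkQ, LinearMap.range_comp, Submodule.range_subtype])

theorem length_range_of_ker_eq {O : Type u} [Ring O] {P V W : Type u} [AddCommGroup P] [Module O P] [AddCommGroup V]
    [Module O V] [AddCommGroup W] [Module O W] (π : P →ₗ[O] V) (φ : P →ₗ[O] W) (hπ : Function.Surjective π)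
    (h : LinearMap.ker π = LinearMap.ker φ) : Module.length O ↥(LinearMap.range φ) = Module.length O V := by
  rw [← φ.quotKerEquivRange.length_eq, ← h, (π.quotKerEquivOfSurjective hπ).length_eq]

/-- The connecting map for a resolution by an injective module. -/
theorem exists_connecting {O : Type u} [CommRing O] {M N F Q : Type u} [AddCommGroup M] [Module O M]
    [AddCommGroup N] [Module O N] [AddCommGroup F] [Module O F] [Module.Injective O F] [AddCommGroup Q]
    [Module O Q] (i : N →ₗ[O] F) (q : F →ₗ[O] Q) (hi : Function.Injective i) (hq : Function.Surjective q)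
    (h : Function.Exact i q) :
    ∃ δ : (M →ₗ[O] Q) →ₗ[O] Ext (ModuleCat.of O M) (ModuleCat.of O N) 1,
      Function.Surjective δ ∧ ∀ f, δ f = 0 ↔ ∃ η : M →ₗ[O] F, q.comp η = f := by
  have hS : (ShortComplex.mk (X₁ := ModuleCat.of O N) (X₂ := ModuleCat.of O F) (X₃ := ModuleCat.of O Q)
      (ModuleCat.ofHom i) (ModuleCat.ofHom q) (ModuleCat.hom_ext h.linearMap_comp_eq_zero)).ShortExact :=
    { exact := (ShortComplex.ShortExact.moduleCat_exact_iff_function_exact _).mpr h
      mono_f := (ModuleCat.mono_iff_injective _).mpr hi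
      epi_g := (ModuleCat.epi_iff_surjective _).mpr hq }
  haveI : CategoryTheory.Injective (ModuleCat.of O F) := Module.injective_object_of_injective_module O F
  refine ⟨{ toFun := fun f => (Ext.mk₀ (ModuleCat.ofHom f)).comp hS.extClass rfl
            map_add' := fun f g => by rw [← Ext.add_comp, ← Ext.mk₀_add]; rfl
            map_smul' := fun g f => by rw [RingHom.id_apply, ← Ext.smul_comp, ← Ext.mk₀_smul]; rfl },
    fun e => ?_, fun f => ⟨fun hf => ?_, fun ⟨η, hη⟩ => ?_⟩⟩
  · obtain ⟨x, hx⟩ := Ext.covariant_sequence_exact₁ _ hS e (Ext.eq_zero_of_injective _) rfl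
    obtain ⟨g, rfl⟩ := (Ext.mk₀_bijective _ _).2 x
    exact ⟨g.hom, hx⟩
  · obtain ⟨x, hx⟩ := Ext.covariant_sequence_exact₃ _ hS _ (rfl : 0 + 1 = 1) hf
    obtain ⟨η, rfl⟩ := (Ext.mk₀_bijective _ _).2 x
    rw [Ext.mk₀_comp_mk₀] at hx
    exact ⟨η.hom, congrArg ModuleCat.Hom.hom ((Ext.mk₀_bijective _ _).1 hx)⟩
  · subst hη
    exact comp_extClass_zero hS η

/-- The length of `Ext¹(M, M)` for the monomial module with exponents `{0} ∪ S ∪ [n, ∞)`. -/
theorem length_ext_one_monomial [Module.Finite ↥A (PowerSeries k)] (hn : 1 ≤ n)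
    (hA : ∀ f : PowerSeries k, f ∈ A ↔ ∀ m : ℕ, coeff m f ≠ 0 → (m = 0 ∨ n ≤ m))
    (M : Submodule ↥A (PowerSeries k)) (S : Finset ℕ) (hS : ∀ a ∈ S, 1 ≤ a ∧ a < n)
    (hM : ∀ f : PowerSeries k, f ∈ M ↔ ∀ m : ℕ, coeff m f ≠ 0 → m ∈ expo n S)
    (d : ℕ) (hdn : d ≤ n) (hd : ∀ m, d ≤ m → m ∈ expo n S) (hd0 : d = 0 ∨ d - 1 ∉ expo n S)
    (T : Finset ℕ) (hT : ∀ b, b ∈ T ↔ d ≤ b ∧ b < 2 * n ∧ ¬ (n ≤ b ∧ b - n ∈ expo n S))
    (γ : letI := augAlgebra A; ↥M →ₗ[↥A] (↥S → ↥T → k))
    (hγ : letI := augAlgebra A; ∀ (x : ↥M) (a : ↥S) (b : ↥T), γ x a b = coeff (b : ℕ) ((x : PowerSeries k) * X ^ ((a : ℕ) + n))) :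
    Module.length ↥A (Ext (ModuleCat.of ↥A ↥M) (ModuleCat.of ↥A ↥M) 1) + (letI := augAlgebra A; Module.length ↥A ↥(LinearMap.range γ)) =
      (S.card * T.card : ℕ) := by
  classical
  letI := augAlgebra A
  have hc : ∀ f : PowerSeries k, X ^ n ∣ f → f ∈ A := fun f hf => (hA f).mpr fun m hm =>
    Or.inr (le_of_not_gt fun h => hm (X_pow_dvd_iff.mp hf m h))
  haveI := isNoetherianRing_subalgebra A hc
  let F := FractionRing (PowerSeries k)
  haveI : IsFractionRing ↥A F := isFractionRing_subalgebra A hc F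
  haveI := injective_fractionRing (O := ↥A) (K := F)
  let ι : PowerSeries k →ₗ[↥A] F := (Algebra.linearMap (PowerSeries k) F).restrictScalars ↥A
  have hι : Function.Injective ι := IsFractionRing.injective (PowerSeries k) F
  have hιmul : ∀ x y, ι (x * y) = ι x * ι y := fun x y => map_mul (algebraMap (PowerSeries k) F) x y
  have hι1 : ι 1 = 1 := map_one (algebraMap (PowerSeries k) F)
  have hXn : ι (X ^ n) ≠ 0 := fun h => pow_ne_zero n X_ne_zero (hι (h.trans (map_zero ι).symm))
  have h1M : (1 : PowerSeries k) ∈ M := (hM 1).mpr fun m hm => Or.inl (by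
    by_contra h; exact hm (by simp [coeff_one, h]))
  let one : ↥M := ⟨1, h1M⟩
  have hXM : ∀ m, m ∈ expo n S → (X : PowerSeries k) ^ m ∈ M := fun m hm => (hM _).mpr fun l hl => by
    rw [coeff_X_pow] at hl
    by_cases h : l = m
    · exact h ▸ hm
    · rw [if_neg h] at hl; exact absurd rfl hl
  -- `N = tⁿ M` inside `k[[t]]`
  have hN : ∀ g : PowerSeries k, (∀ b, coeff b g ≠ 0 → n ≤ b ∧ b - n ∈ expo n S) → ∃ y ∈ M, g = X ^ n * y := by
    intro g hg
    obtain ⟨y, rfl⟩ : X ^ n ∣ g := X_pow_dvd_iff.mpr fun i hi => by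
      by_contra h; exact absurd (hg i h).1 (by omega)
    refine ⟨y, (hM y).mpr fun m hm => ?_, rfl⟩
    have := (hg (m + n) (by rwa [coeff_X_pow_mul])).2
    rwa [Nat.add_sub_cancel] at this
  let q : F →ₗ[↥A] F ⧸ M.map ι := (M.map ι).mkQ
  have hq : ∀ g : PowerSeries k, q (ι g / ι (X ^ n)) = 0 ↔ ∃ y ∈ M, g = X ^ n * y := fun g => by
    rw [Submodule.mkQ_apply, Submodule.Quotient.mk_eq_zero]
    constructor
    · rintro ⟨y, hy, he⟩
      refine ⟨y, hy, hι ?_⟩
      rw [hιmul, he, mul_div_cancel₀ _ hXn]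
    · rintro ⟨y, hy, rfl⟩
      exact ⟨y, hy, by rw [hιmul, mul_div_cancel_left₀ _ hXn]⟩
  -- socle elements
  let P : (↥T → k) → PowerSeries k := fun u => ∑ b : ↥T, C (u b) * X ^ (b : ℕ)
  have hP : ∀ u m, coeff m (P u) = if h : m ∈ T then u ⟨m, h⟩ else 0 := fun u m => by
    rw [show P u = ∑ b : ↥T, C (u b) * X ^ (b : ℕ) from rfl, map_sum]
    split_ifs with h
    · rw [Finset.sum_eq_single ⟨m, h⟩ (fun b _ hb => by
        rw [coeff_C_mul, coeff_X_pow, if_neg (fun e => hb (Subtype.ext e.symm)), mul_zero]) (by simp)]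
      simp
    · exact Finset.sum_eq_zero fun b _ => by
        rw [coeff_C_mul, coeff_X_pow, if_neg (fun e => h (by rw [e]; exact b.2)), mul_zero]
  have hPN : ∀ g : PowerSeries k, X ^ d ∣ g → ∃ y ∈ M, g - P (fun b => coeff (b : ℕ) g) = X ^ n * y := by
    refine fun g hg => hN _ fun b hb => ?_
    by_contra hcon
    apply hb
    rw [map_sub, hP]
    split_ifs with h
    · exact sub_self _
    · rw [sub_zero]
      by_contra h'
      refine h ((hT b).mpr ⟨le_of_not_gt fun hlt => h' (X_pow_dvd_iff.mp hg b hlt), ?_, hcon⟩)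
      by_contra h2
      exact hcon ⟨by omega, Or.inr (Or.inl (by omega))⟩
  let τ : (↥T → k) →ₗ[↥A] F ⧸ M.map ι :=
    { toFun := fun u => q (ι (P u) / ι (X ^ n))
      map_add' := fun u v => by
        rw [← map_add, ← add_div, ← map_add]
        congr 3
        simp [P, add_mul, Finset.sum_add_distrib]
      map_smul' := fun g u => by
        rw [RingHom.id_apply, ← map_smul q, ← sub_eq_zero, ← map_sub]
        rw [show g • (ι (P u) / ι (X ^ n)) = ι ((g : PowerSeries k) * P u) / ι (X ^ n) by
          rw [← smul_div_assoc, ← map_smul]; rfl, ← sub_div, ← map_sub, hq]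
        refine hN _ fun b hb => ?_
        rw [map_sub, hP] at hb
        by_contra hcon
        apply hb
        have hsum : coeff b ((g : PowerSeries k) * P u) = constantCoeff (g : PowerSeries k) * coeff b (P u) := by
          rw [coeff_mul, Finset.sum_eq_single (0, b)]
          · rw [coeff_zero_eq_constantCoeff_apply]
          · intro p hp hne
            rw [Finset.HasAntidiagonal.mem_antidiagonal] at hp
            by_contra h
            rcases (hA _).mp g.2 p.1 (left_ne_zero_of_mul h) with h0 | h0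
            · exact hne (Prod.ext h0 (by omega))
            · have h2 := right_ne_zero_of_mul h
              rw [hP] at h2
              split_ifs at h2 with h3
              · exact hcon ⟨by omega, hd _ (by have := ((hT _).mp h3).1; omega)⟩
              · exact h2 rfl
          · intro h; exact absurd (Finset.HasAntidiagonal.mem_antidiagonal.mpr (zero_add b)) h
        rw [hsum, hP]
        split_ifs with h
        · exact sub_eq_zero.mpr rfl
        · simp }
  have hτ : Function.Injective τ := (injective_iff_map_eq_zero τ).mpr fun u hu => by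
    obtain ⟨y, hy, he⟩ := (hq _).mp hu
    funext b
    have h1 := hP u b
    rw [dif_pos b.2] at h1
    rw [Pi.zero_apply, ← h1, he, coeff_X_pow_mul']
    split_ifs with hb
    · by_contra hne
      exact ((hT _).mp b.2).2.2 ⟨hb, (hM y).mp hy _ hne⟩
    · rfl
  -- the maps `M → F/M` vanishing at `1`
  let Ψ : (↥S → ↥T → k) →ₗ[↥A] (↥M →ₗ[↥A] F ⧸ M.map ι) :=
    { toFun := fun v =>
        { toFun := fun f => ∑ a : ↥S, τ (coeff (a : ℕ) (f : PowerSeries k) • v a)
          map_add' := fun f g => by simp [add_smul, Finset.sum_add_distrib]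
          map_smul' := fun g f => by
            rw [RingHom.id_apply, Finset.smul_sum]
            refine Finset.sum_congr rfl fun a _ => ?_
            rw [← map_smul]
            congr 1
            funext b
            show coeff (a : ℕ) ((g : PowerSeries k) * (f : PowerSeries k)) * v a b =
              constantCoeff (g : PowerSeries k) * (coeff (a : ℕ) (f : PowerSeries k) * v a b)
            rw [coeff_mul_of_mem A hA g _ (hS _ a.2).2, mul_assoc] }
      map_add' := fun v w => LinearMap.ext fun f => by simp [smul_add, Finset.sum_add_distrib]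
      map_smul' := fun g v => LinearMap.ext fun f => by
        simp only [RingHom.id_apply, LinearMap.smul_apply, LinearMap.coe_mk, AddHom.coe_mk, Finset.smul_sum,
          Pi.smul_apply, ← map_smul]
        exact Finset.sum_congr rfl fun a _ => congrArg τ (by
          funext b
          show _ * (constantCoeff (g : PowerSeries k) * v a b) = constantCoeff (g : PowerSeries k) * (_ * v a b)
          ring) }
  let mono : ↥S → ↥M := fun a => ⟨X ^ (a : ℕ), hXM _ (Or.inr (Or.inr a.2))⟩
  have hΨX : ∀ v a, Ψ v (mono a) = τ (v a) := fun v a => by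
    show ∑ a' : ↥S, τ (coeff (a' : ℕ) ((X : PowerSeries k) ^ (a : ℕ)) • v a') = _
    rw [Finset.sum_eq_single a (fun b _ hb => by
      rw [coeff_X_pow, if_neg (fun e => hb (Subtype.ext e)), zero_smul, map_zero]) (by simp)]
    simp
  have hΨ1 : ∀ v, Ψ v one = 0 := fun v => Finset.sum_eq_zero fun a _ => by
    show τ (coeff (a : ℕ) (1 : PowerSeries k) • v a) = 0
    rw [coeff_one, if_neg (by have := (hS _ a.2).1; omega), zero_smul, map_zero]
  -- the connecting map
  let i : ↥M →ₗ[↥A] F := ι.comp M.subtype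
  have hi : Function.Injective i := hι.comp Subtype.val_injective
  have hiq : Function.Exact i q := exact_comp_subtype_mkQ ι M
  have hqs : Function.Surjective q := Submodule.mkQ_surjective _
  obtain ⟨δ, hδs, hδ⟩ := exists_connecting (M := ↥M) (N := ↥M) (F := F) (Q := F ⧸ M.map ι) i q hi hqs hiq
  let Θ : (↥S → ↥T → k) →ₗ[↥A] Ext (ModuleCat.of ↥A ↥M) (ModuleCat.of ↥A ↥M) 1 := δ.comp Ψ
  have hsurj : Function.Surjective Θ := fun e => by
    obtain ⟨h₀, hx⟩ := hδs e
    obtain ⟨c, hc0⟩ := (M.map ι).mkQ_surjective (h₀ one)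
    let η : ↥M →ₗ[↥A] F := (LinearMap.mulLeft ↥A c).comp i
    let h : ↥M →ₗ[↥A] F ⧸ M.map ι := h₀ - q.comp η
    have h1 : h one = 0 := by
      show h₀ one - q (c * ι 1) = 0
      rw [hι1, mul_one]
      exact sub_eq_zero.mpr hc0.symm
    have hkill : ∀ f : ↥M, (∀ a ∈ S, coeff a (f : PowerSeries k) = 0) → h f = 0 := fun f hf => by
      have hfA : (f : PowerSeries k) ∈ A := (hA _).mpr fun m hm => by
        rcases (hM _).mp f.2 m hm with h | h | h
        · exact Or.inl h
        · exact Or.inr h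
        · exact absurd (hf m h) hm
      have : f = (⟨_, hfA⟩ : ↥A) • one := Subtype.ext (mul_one _).symm
      rw [this, map_smul, h1, smul_zero]
    have hval : ∀ a : ↥S, ∃ u, τ u = h (mono a) := fun a => by
      obtain ⟨z, hz⟩ := (M.map ι).mkQ_surjective (h (mono a))
      have hm : ∀ l, ∃ y ∈ M, ι (X ^ (n + l)) * z = ι y := fun l => by
        have hmemA : (X : PowerSeries k) ^ (n + l) ∈ A := hc _ (pow_dvd_pow _ (Nat.le_add_right n l))
        have h0 : h ((⟨_, hmemA⟩ : ↥A) • mono a) = 0 := hkill _ fun b hb => by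
          show coeff b ((X : PowerSeries k) ^ (n + l) * X ^ (a : ℕ)) = (0 : k)
          rw [← pow_add, coeff_X_pow, if_neg (by have := (hS b hb).2; omega)]
        rw [map_smul, ← hz, ← map_smul, Submodule.mkQ_apply, Submodule.Quotient.mk_eq_zero] at h0
        obtain ⟨y, hy, he⟩ := h0
        exact ⟨y, hy, (Algebra.smul_def (⟨_, hmemA⟩ : ↥A) z).symm.trans he.symm⟩
      obtain ⟨g, hg, hge⟩ := hm 0
      rw [add_zero] at hge
      have hdvd : X ^ d ∣ g := by
        by_contra hdv
        rw [X_pow_dvd_iff] at hdv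
        push Not at hdv
        have hg0 : g ≠ 0 := fun h => by obtain ⟨i, -, hi⟩ := hdv; exact hi (by rw [h, map_zero])
        obtain ⟨r, hr⟩ := ENat.ne_top_iff_exists.mp (order_eq_top.not.mpr hg0)
        obtain ⟨hr1, hr2⟩ := order_eq_nat.mp hr.symm
        obtain ⟨j, hj, hj'⟩ := hdv
        have hrj : r ≤ j := le_of_not_gt fun h => hj' (hr2 j h)
        obtain ⟨y, hy, hye⟩ := hm (d - 1 - r)
        have hye' : y = g * X ^ (d - 1 - r) := hι (by
          rw [← hye, hιmul, ← hge, pow_add, hιmul]; ring)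
        refine (hd0.resolve_left (by omega)) ((hM y).mp hy _ ?_)
        rw [hye', coeff_mul_X_pow', if_pos (Nat.sub_le _ _), show d - 1 - (d - 1 - r) = r by omega]
        exact hr1
      obtain ⟨y, hy, he⟩ := hPN g hdvd
      refine ⟨fun b => coeff (b : ℕ) g, ?_⟩
      rw [← hz]
      show q (ι (P _) / ι (X ^ n)) = q z
      rw [show z = ι g / ι (X ^ n) by rw [← hge, mul_div_cancel_left₀ _ hXn], eq_comm, ← sub_eq_zero, ← map_sub,
        ← sub_div, ← map_sub, hq]
      exact ⟨y, hy, he⟩
    choose v hv using hval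
    have hΨv : Ψ v = h := LinearMap.ext fun f => by
      let f' : ↥M := f - ∑ a : ↥S, (⟨C (coeff (a : ℕ) (f : PowerSeries k)), A.algebraMap_mem _⟩ : ↥A) • mono a
      have hf' : ∀ a ∈ S, coeff a (f' : PowerSeries k) = 0 := fun a ha => by
        simp only [f', mono, Submodule.coe_sub, AddSubmonoidClass.coe_finset_sum, map_sub, map_sum, Submodule.coe_smul,
          Subalgebra.smul_def, smul_eq_mul, coeff_C_mul, coeff_X_pow]
        rw [Finset.sum_eq_single ⟨a, ha⟩ (fun b _ hb => by
          rw [if_neg (fun e => hb (Subtype.ext e.symm)), mul_zero]) (by simp)]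
        simp
      have e1 := hkill f' hf'
      have e2 : Ψ v f' = 0 := Finset.sum_eq_zero fun a _ => by
        show τ (coeff (a : ℕ) (f' : PowerSeries k) • v a) = 0
        rw [hf' _ a.2, zero_smul, map_zero]
      have e3 : f = f' + ∑ a : ↥S, (⟨C (coeff (a : ℕ) (f : PowerSeries k)), A.algebraMap_mem _⟩ : ↥A) • mono a :=
        (sub_add_cancel f _).symm
      rw [e3, map_add, map_add, e1, e2, map_sum, map_sum]
      refine congrArg _ (Finset.sum_congr rfl fun a _ => ?_)
      rw [map_smul, map_smul, hΨX, hv]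
    refine ⟨v, ?_⟩
    show δ (Ψ v) = _
    rw [hΨv, map_sub, (hδ (q.comp η)).mpr ⟨η, rfl⟩, sub_zero]
    exact hx
  have hker : LinearMap.ker Θ = LinearMap.range γ := by
    ext v
    constructor
    · intro hv
      obtain ⟨η, he⟩ := (hδ (Ψ v)).mp hv
      obtain ⟨c, hc'⟩ := exists_eq_mul (M.map ι)
        (η.comp (Submodule.equivMapOfInjective ι hι M).symm.toLinearMap)
      have hη : ∀ f : ↥M, η f = c * ι f := fun f => by
        have := hc' (Submodule.equivMapOfInjective ι hι M f)
        simpa using this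
      have h1 : q (η one) = 0 := (LinearMap.congr_fun he one).trans (hΨ1 v)
      rw [hη, hι1, mul_one, Submodule.mkQ_apply, Submodule.Quotient.mk_eq_zero] at h1
      obtain ⟨x, hx', rfl⟩ := h1
      refine ⟨⟨x, hx'⟩, funext fun a => funext fun b => ?_⟩
      have h2 : q (η (mono a)) = τ (v a) := (LinearMap.congr_fun he _).trans (hΨX v a)
      rw [hη] at h2
      have h3 : ∃ y ∈ M, x * X ^ ((a : ℕ) + n) - P (v a) = X ^ n * y := (hq _).mp (by
        rw [map_sub, sub_div, map_sub, sub_eq_zero]
        refine Eq.trans ?_ h2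
        rw [pow_add, hιmul, hιmul, ← mul_assoc, mul_div_cancel_right₀ _ hXn])
      obtain ⟨y, hy, he3⟩ := h3
      rw [hγ]
      have h4 := congrArg (coeff (b : ℕ)) he3
      rw [map_sub, hP, dif_pos b.2, coeff_X_pow_mul'] at h4
      rw [sub_eq_iff_eq_add] at h4
      rw [h4]
      split_ifs with hb
      · have : coeff ((b : ℕ) - n) y = 0 := by
          by_contra hne; exact ((hT _).mp b.2).2.2 ⟨hb, (hM y).mp hy _ hne⟩
        rw [this, zero_add]
      · rw [zero_add]
    · rintro ⟨x, rfl⟩
      show δ (Ψ (γ x)) = 0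
      rw [show Ψ (γ x) = q.comp ((LinearMap.mulLeft ↥A (ι x)).comp i) from ?_]
      · exact (hδ _).mpr ⟨_, rfl⟩
      refine LinearMap.ext fun f => ?_
      -- both sides are linear; compare on `1` and on the monomials
      let f' : ↥M := f - ∑ a : ↥S, (⟨C (coeff (a : ℕ) (f : PowerSeries k)), A.algebraMap_mem _⟩ : ↥A) • mono a
      have hf' : ∀ a ∈ S, coeff a (f' : PowerSeries k) = 0 := fun a ha => by
        simp only [f', mono, Submodule.coe_sub, AddSubmonoidClass.coe_finset_sum, map_sub, map_sum, Submodule.coe_smul,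
          Subalgebra.smul_def, smul_eq_mul, coeff_C_mul, coeff_X_pow]
        rw [Finset.sum_eq_single ⟨a, ha⟩ (fun b _ hb => by
          rw [if_neg (fun e => hb (Subtype.ext e.symm)), mul_zero]) (by simp)]
        simp
      have hfA : (f' : PowerSeries k) ∈ A := (hA _).mpr fun m hm => by
        rcases (hM _).mp f'.2 m hm with h | h | h
        · exact Or.inl h
        · exact Or.inr h
        · exact absurd (hf' m h) hm
      have hsplit : f = (⟨_, hfA⟩ : ↥A) • one +
          ∑ a : ↥S, (⟨C (coeff (a : ℕ) (f : PowerSeries k)), A.algebraMap_mem _⟩ : ↥A) • mono a := by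
        rw [show (⟨_, hfA⟩ : ↥A) • one = f' from Subtype.ext (mul_one _)]
        exact (sub_add_cancel f _).symm
      rw [hsplit]
      simp only [map_add, map_sum, map_smul, hΨX, hΨ1]
      congr 1
      · congr 1
        show (0 : F ⧸ M.map ι) = q (ι x * ι 1)
        rw [hι1, mul_one, eq_comm]
        exact (Submodule.Quotient.mk_eq_zero _).mpr ⟨x, x.2, rfl⟩
      refine Finset.sum_congr rfl fun a _ => congrArg _ ?_
      show q (ι (P (γ x a)) / ι (X ^ n)) = q (ι x * ι (X ^ (a : ℕ)))
      have hd' : X ^ d ∣ (x : PowerSeries k) * X ^ ((a : ℕ) + n) :=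
        (pow_dvd_pow X (by omega : d ≤ (a : ℕ) + n)).mul_left _
      obtain ⟨y, hy, he⟩ := hPN _ hd'
      rw [show ι x * ι (X ^ (a : ℕ)) = ι ((x : PowerSeries k) * X ^ ((a : ℕ) + n)) / ι (X ^ n) by
        rw [pow_add, hιmul, hιmul, ← mul_assoc, mul_div_cancel_right₀ _ hXn],
        eq_comm, ← sub_eq_zero, ← map_sub, ← sub_div, ← map_sub, hq]
      refine ⟨y, hy, ?_⟩
      rw [← he]
      congr 3
      exact funext fun b => hγ x a b
  rw [← (Θ.quotKerEquivOfSurjective hsurj).length_eq, hker, add_comm,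
    ← Module.length_eq_add_of_exact (LinearMap.range γ).subtype (LinearMap.range γ).mkQ
      Subtype.val_injective (Submodule.mkQ_surjective _) (LinearMap.exact_subtype_mkQ _),
    Module.length_pi_of_fintype]
  simp only [length_fun_aug, Finset.sum_const, Finset.card_univ, Fintype.card_coe]
  rw [nsmul_eq_mul, ← Nat.cast_mul]

end Groth.Agent.TFCanonLib
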