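import Groth.Agent.TFCanonLib.ExtLength

/-! Monomial modules: spans, the coefficient maps. -/

set_option autoImplicit false
set_option maxHeartbeats 400000

universe u

namespace Groth.Agent.TFCanonLib

open PowerSeries CategoryTheory Abelian

variable {k : Type u} [Field k] (A : Subalgebra k (PowerSeries k)) {n : ℕ}

theorem exists_gamma (hA : ∀ f : PowerSeries k, f ∈ A ↔ ∀ m : ℕ, coeff m f ≠ 0 → (m = 0 ∨ n ≤ m))
    (M : Submodule ↥A (PowerSeries k)) (S T : Finset ℕ) (hT : ∀ b ∈ T, b < 2 * n) :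
    letI := augAlgebra A
    ∃ γ : ↥M →ₗ[↥A] (↥S → ↥T → k), ∀ (x : ↥M) (a : ↥S) (b : ↥T),
      γ x a b = coeff (b : ℕ) ((x : PowerSeries k) * X ^ ((a : ℕ) + n)) := by
  letI := augAlgebra A
  refine ⟨{ toFun := fun x a b => coeff (b : ℕ) ((x : PowerSeries k) * X ^ ((a : ℕ) + n))
            map_add' := fun x y => funext fun a => funext fun b => by simp [add_mul]
            map_smul' := fun g x => funext fun a => funext fun b => ?_ }, fun _ _ _ => rfl⟩
  show coeff (b : ℕ) (((g : PowerSeries k) * (x : PowerSeries k)) * X ^ ((a : ℕ) + n)) =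
    constantCoeff (g : PowerSeries k) * coeff (b : ℕ) ((x : PowerSeries k) * X ^ ((a : ℕ) + n))
  rw [mul_assoc, coeff_mul, Finset.sum_eq_single (0, (b : ℕ))]
  · rw [coeff_zero_eq_constantCoeff_apply]
  · intro p hp hne
    rw [Finset.HasAntidiagonal.mem_antidiagonal] at hp
    by_contra h
    rcases (hA _).mp g.2 p.1 (left_ne_zero_of_mul h) with h0 | h0
    · exact hne (Prod.ext h0 (by omega))
    · have h2 := right_ne_zero_of_mul h
      rw [coeff_mul_X_pow'] at h2
      have hb := hT _ b.2
      exact h2 (if_neg (by omega))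
  · intro h
    exact absurd (Finset.HasAntidiagonal.mem_antidiagonal.mpr (zero_add (b : ℕ))) h

/-- The spanned monomial module. -/
theorem mem_span_monomials (hA : ∀ f : PowerSeries k, f ∈ A ↔ ∀ m : ℕ, coeff m f ≠ 0 → (m = 0 ∨ n ≤ m))
    (S : Finset ℕ) (U : Set ℕ) (hU : U = {0} ∪ ↑S) (f : PowerSeries k) :
    f ∈ Submodule.span ↥A ((fun a : ℕ => (X : PowerSeries k) ^ a) '' U) ↔
      ∀ m : ℕ, coeff m f ≠ 0 → m ∈ expo n S := by
  constructor
  · intro hf
    induction hf using Submodule.span_induction with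
    | mem y hy =>
      obtain ⟨a, ha, rfl⟩ := hy
      intro m hm
      rw [coeff_X_pow] at hm
      have : m = a := by by_contra h; exact hm (if_neg h)
      subst this hU
      rcases ha with h | h
      · exact Or.inl h
      · exact Or.inr (Or.inr h)
    | zero => intro m hm; exact absurd (map_zero _) hm
    | add x y _ _ hx hy =>
      intro m hm
      rw [map_add] at hm
      rcases (show coeff m x ≠ 0 ∨ coeff m y ≠ 0 by by_contra h; push Not at h; exact hm (by rw [h.1, h.2, add_zero])) with h | h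
      · exact hx m h
      · exact hy m h
    | smul g x _ hx =>
      intro m hm
      by_contra h
      have hmn : m < n := lt_of_not_ge fun h' => h (Or.inr (Or.inl h'))
      refine h (hx m fun h0 => hm ?_)
      show coeff m ((g : PowerSeries k) * x) = 0
      rw [coeff_mul_of_mem A hA g x hmn, h0, mul_zero]
  · intro hf
    classical
    let g : PowerSeries k := f - ∑ a ∈ S.erase 0, C (coeff a f) * X ^ a
    have hg : g ∈ A := (hA g).mpr fun m hm => by
      by_contra hcon
      push Not at hcon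
      apply hm
      simp only [g, map_sub, map_sum, coeff_C_mul, coeff_X_pow, mul_ite, mul_one, mul_zero, Finset.sum_ite_eq]
      split_ifs with h
      · exact sub_self _
      · rw [sub_zero]
        by_contra h'
        rcases hf m h' with h'' | h'' | h''
        · exact hcon.1 h''
        · omega
        · exact h (Finset.mem_erase.mpr ⟨hcon.1, h''⟩)
    have e : f = (⟨g, hg⟩ : ↥A) • (X : PowerSeries k) ^ 0 +
        ∑ a ∈ S.erase 0, (⟨C (coeff a f), A.algebraMap_mem _⟩ : ↥A) • (X : PowerSeries k) ^ a := by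
      simp only [Subalgebra.smul_def, smul_eq_mul, pow_zero, mul_one]
      exact (sub_add_cancel f _).symm
    rw [e]
    subst hU
    exact add_mem (Submodule.smul_mem _ _ (Submodule.subset_span ⟨0, Or.inl rfl, rfl⟩))
      (sum_mem fun a ha => Submodule.smul_mem _ _ (Submodule.subset_span ⟨a, Or.inr (Finset.mem_of_mem_erase ha), rfl⟩))

/-- Coefficient map of a monomial module. -/
theorem length_quotient_coeff [Module.Finite ↥A (PowerSeries k)]
    (hA : ∀ f : PowerSeries k, f ∈ A ↔ ∀ m : ℕ, coeff m f ≠ 0 → (m = 0 ∨ n ≤ m))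
    (M : Submodule ↥A (PowerSeries k)) (S : Finset ℕ) (hS : ∀ a ∈ S, a < n)
    (hXM : ∀ a ∈ S, (X : PowerSeries k) ^ a ∈ M) {W : Type u} [AddCommGroup W] [Module ↥A W] (φ : ↥M →ₗ[↥A] W)
    (hN : ∀ x : ↥M, φ x = 0 ↔ ∀ a ∈ S, coeff a (x : PowerSeries k) = 0) :
    Module.length ↥A ↥(LinearMap.range φ) = S.card := by
  classical
  letI := augAlgebra A
  let π : ↥M →ₗ[↥A] (↥S → k) :=
    { toFun := fun x a => coeff (a : ℕ) (x : PowerSeries k)
      map_add' := fun x y => funext fun a => map_add _ _ _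
      map_smul' := fun g x => funext fun a => coeff_mul_of_mem A hA g _ (hS _ a.2) }
  have hπ : Function.Surjective π := fun v => by
    refine ⟨∑ a : ↥S, (⟨C (v a), A.algebraMap_mem _⟩ : ↥A) • (⟨X ^ (a : ℕ), hXM _ a.2⟩ : ↥M), funext fun b => ?_⟩
    show coeff (b : ℕ) _ = v b
    simp only [AddSubmonoidClass.coe_finset_sum, Submodule.coe_smul, Subalgebra.smul_def, smul_eq_mul, map_sum,
      coeff_C_mul, coeff_X_pow]
    rw [Finset.sum_eq_single b (fun a _ ha => by
      rw [if_neg (fun e => ha (Subtype.ext e.symm)), mul_zero]) (by simp)]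
    simp
  have hker : LinearMap.ker π = LinearMap.ker φ := by
    ext x; rw [LinearMap.mem_ker, LinearMap.mem_ker, hN]
    exact ⟨fun h a ha => congrFun h ⟨a, ha⟩, fun h => funext fun a => h _ a.2⟩
  have hlen : Module.length ↥A (↥S → k) = S.card := by rw [length_fun_aug, Fintype.card_coe]
  have h1 := @length_range_of_ker_eq ↥A _ ↥M (↥S → k) W _ _ _ _ _ _ π φ hπ hker
  refine Eq.trans ?_ hlen
  exact h1

theorem finite_cubical (hn : 1 ≤ n) (hA : ∀ f : PowerSeries k, f ∈ A ↔ ∀ m : ℕ, coeff m f ≠ 0 → (m = 0 ∨ n ≤ m)) :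
    Module.Finite ↥A (PowerSeries k) := by
  classical
  refine ⟨⟨(Finset.range n).image fun a => (X : PowerSeries k) ^ a, ?_⟩⟩
  rw [Finset.coe_image, eq_top_iff]
  intro f _
  refine (mem_span_monomials A hA (Finset.Icc 1 (n - 1)) _ ?_ f).mpr fun m _ => ?_
  · ext x; simp; omega
  · simp only [expo, Set.mem_setOf_eq, Finset.mem_Icc]; omega

end Groth.Agent.TFCanonLib
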